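import Cfsg.Agent.Lib.Max2.Fr2

/-! Maximality of the imprimitive subgroups `GL_m ≀ S_t` in `SL`. -/

set_option autoImplicit false

namespace Cfsg.Lib.Forms

open Module Cfsg.Geo

variable {F : Type*} [Field F] {V : Type*} [AddCommGroup V] [Module F V] {ι κ : Type*}

namespace Blk

open Fr

variable (b : Basis (ι × κ) F V)

/-- The blocks of a basis indexed by a product. -/
def blk (i : ι) : Submodule F V := Submodule.span F (Set.range fun k => b (i, k))

variable {b}

theorem mem_blk {i : ι} {v : V} : v ∈ blk b i ↔ ∀ x : ι × κ, x.1 ≠ i → b.repr v x = 0 := by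
  have : (Set.range fun k => b (i, k)) = b '' {x | x.1 = i} := by
    ext v; constructor
    · rintro ⟨k, rfl⟩; exact ⟨(i, k), rfl, rfl⟩
    · rintro ⟨⟨j, k⟩, rfl, rfl⟩; exact ⟨k, rfl⟩
  rw [blk, this, Basis.mem_span_image]
  refine forall_congr' fun x => ?_
  simp [not_imp_comm]

variable (b)

theorem b_mem (i : ι) (k : κ) : b (i, k) ∈ blk b i := Submodule.subset_span ⟨k, rfl⟩

theorem finrank_blk [Fintype κ] (i : ι) : finrank F (blk b i) = Fintype.card κ :=
  finrank_span_eq_card (b.linearIndependent.comp (fun k => (i, k)) fun _ _ h => (Prod.mk.inj h).2)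

theorem blk_inj [Nonempty κ] : Function.Injective (blk b) := fun i j h => by
  by_contra hij
  obtain ⟨k⟩ := ‹Nonempty κ›
  have := mem_blk.1 (h ▸ b_mem b i k : b (i, k) ∈ blk b j) (i, k) hij
  simp at this

variable [DecidableEq ι]

/-- Projection onto a block. -/
noncomputable def pj (i : ι) : V →ₗ[F] V := b.constr F fun x => if x.1 = i then b x else 0

theorem repr_pj (i : ι) (v : V) (x : ι × κ) :
    b.repr (pj b i v) x = if x.1 = i then b.repr v x else 0 := by
  classical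
  have : b.coord x ∘ₗ pj b i = if x.1 = i then b.coord x else 0 := b.ext fun y => by
    by_cases h : y = x
    · subst h; by_cases h' : y.1 = i <;> simp [pj, h']
    · by_cases h' : y.1 = i <;> by_cases h'' : x.1 = i <;>
        simp [pj, h', h'', Finsupp.single_apply, h]
  have := LinearMap.congr_fun this v
  split_ifs at this ⊢ <;> exact this

theorem pj_mem (i : ι) (v : V) : pj b i v ∈ blk b i :=
  mem_blk.2 fun x h => by simp [repr_pj, h]

variable {b}

theorem pj_of_mem {i : ι} {v : V} (h : v ∈ blk b i) : pj b i v = v :=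
  b.ext_elem fun x => by
    rw [repr_pj]; split_ifs with h'
    · rfl
    · exact (mem_blk.1 h x h').symm

theorem pj_of_ne {i j : ι} {v : V} (h : v ∈ blk b j) (hij : j ≠ i) : pj b i v = 0 :=
  b.ext_elem fun x => by
    rw [repr_pj]; split_ifs with h'
    · simpa using mem_blk.1 h x (h' ▸ hij.symm)
    · simp

theorem exists_pj_ne {i : ι} {v : V} (h : v ∉ blk b i) : ∃ k, k ≠ i ∧ pj b k v ≠ 0 := by
  rw [mem_blk] at h; push Not at h
  obtain ⟨x, hx, h⟩ := h
  exact ⟨x.1, hx, fun h' => h (by simpa [h'] using (repr_pj b x.1 v x).symm)⟩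

variable (b) in
omit [DecidableEq ι] in
/-- Functionals supported on a block. -/
def Dual (i : ι) (φ : V →ₗ[F] F) : Prop := ∀ j, j ≠ i → ∀ v ∈ blk b j, φ v = 0

theorem dual_comp (i : ι) (φ : V →ₗ[F] F) : Dual b i (φ ∘ₗ pj b i) := fun j h v hv => by
  simp [pj_of_ne hv h]

omit [DecidableEq ι] in
theorem Dual.smul {i : ι} {φ : V →ₗ[F] F} (h : Dual b i φ) (c : F) : Dual b i (c • φ) :=
  fun j hj v hv => by simp [h j hj v hv]

theorem Dual.pj {i : ι} {φ : V →ₗ[F] F} (h : Dual b i φ) (v : V) : φ (pj b i v) = φ v := by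
  have : φ ∘ₗ Blk.pj b i = φ := b.ext fun x => by
    by_cases hx : x.1 = i
    · simp [Blk.pj, hx]
    · simp [Blk.pj, hx, h x.1 hx _ (b_mem b x.1 x.2)]
  exact LinearMap.congr_fun this v

omit [DecidableEq ι] in
theorem dual_coord (x : ι × κ) : Dual b x.1 (b.coord x) := fun _ hj _ hv => mem_blk.1 hv x hj.symm

theorem exists_dual {i : ι} {w : V} (hw : w ∈ blk b i) {W : Submodule F V} (h : w ∉ W) :
    ∃ φ, Dual b i φ ∧ φ w = 1 ∧ ∀ v, pj b i v ∈ W → φ v = 0 := by
  obtain ⟨φ, h1, h2⟩ := exists_functional h 1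
  exact ⟨_, dual_comp i φ, by simp [pj_of_mem hw, h1], fun v hv => h2 _ hv⟩

variable [Fintype ι] [Fintype κ] [DecidableEq κ] [FiniteDimensional F V]

omit [Fintype ι] [DecidableEq κ] in
theorem exists_dual' (i : ι) {W : Submodule F V} (h : finrank F W < Fintype.card κ) :
    ∃ w ∈ blk b i, w ≠ 0 ∧ w ∉ W ∧ ∃ φ, Dual b i φ ∧ φ w = 1 ∧ ∀ v, pj b i v ∈ W → φ v = 0 := by
  obtain ⟨w, hw, h⟩ := exists_not_mem_of_finrank_lt (U := blk b i) (W := W) (by rwa [finrank_blk])
  exact ⟨w, hw, fun h' => h (h' ▸ zero_mem _), h, exists_dual hw h⟩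

omit [DecidableEq ι] [Fintype ι] [Fintype κ] [DecidableEq κ] in
theorem exists_dec {i : ι} {u : V} (hu : u ∈ blk b i) {φ : V →ₗ[F] F} (hφ : Dual b i φ)
    (h : 1 + φ u ≠ 0) : ∃ g ∈ decL (blk b), ∀ x, g x = x + φ x • u := by
  have h1 := LinearMap.transvection.det φ u
  refine ⟨(LinearMap.transvection φ u).equivOfDetNeZero (h1 ▸ h), ⟨1, fun j => ?_⟩,
    fun x => by simp [LinearMap.transvection.apply]⟩
  refine mem_stabL_iff_map.1 (mem_stabL_of_mapsTo fun x hx => ?_)
  by_cases hj : j = i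
  · subst hj; simpa [LinearMap.transvection.apply] using add_mem hx (Submodule.smul_mem _ _ hu)
  · simpa [LinearMap.transvection.apply, hφ j hj x hx] using hx

omit [FiniteDimensional F V] in
theorem exists_perm [Nonempty κ] (σ : Equiv.Perm ι) :
    ∃ g ∈ slV F V, ∀ j, (blk b j).map (g : V →ₗ[F] V) = blk b (σ j) := by
  cases isEmpty_or_nonempty ι
  · exact ⟨1, one_mem _, fun j => isEmptyElim j⟩
  obtain ⟨g, hg, c, hc⟩ := exists_fix b (mon_mem b (σ.prodCongr (1 : Equiv.Perm κ)) 1)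
    (Classical.arbitrary _)
  refine ⟨g, hg.1, fun j => ?_⟩
  ext v
  obtain ⟨v, rfl⟩ := g.surjective v
  rw [Submodule.mem_map_equiv, LinearEquiv.symm_apply_apply, mem_blk, mem_blk, hc,
    (σ.prodCongr (1 : Equiv.Perm κ)).surjective.forall (p := fun x => x.1 ≠ σ j → _)]
  refine forall_congr' fun x => ?_
  rw [repr_mon]; simp

variable {X : Subgroup (V ≃ₗ[F] V)} (hX : slV F V ⊓ decL (blk b) ≤ X)

variable (b X) in
omit [DecidableEq ι] [Fintype ι] [Fintype κ] [DecidableEq κ] [FiniteDimensional F V] in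
/-- `X` contains a root group linking two blocks. -/
def Win : Prop := ∃ i k, k ≠ i ∧ ∃ u ∈ blk b k, u ≠ 0 ∧ ∃ φ, Dual b i φ ∧ φ ≠ 0 ∧
  ∀ c : F, HasTv X u (c • φ)

include hX

omit [DecidableEq ι] [Fintype ι] [Fintype κ] [DecidableEq κ] in
theorem hasTv {i : ι} {u : V} (hu : u ∈ blk b i) {φ : V →ₗ[F] F} (hφ : Dual b i φ)
    (h : φ u = 0) : HasTv X u φ := by
  obtain ⟨g, hg, H⟩ := exists_dec hu hφ (by simp [h])
  exact ⟨g, hX ⟨mem_slV.2 (by rw [det_of_tv H, h, add_zero]), hg⟩, H⟩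

theorem Win.slV_le [Nonempty κ] (h : Win b X) : slV F V ≤ X := by
  obtain ⟨i, k, ki, u, hu, u0, φ, hφ, φ0, h⟩ := h
  have h1 : ∀ u' ∈ blk b k, ∀ c : F, HasTv X u' (c • φ) := fun u' hu' c => by
    by_cases h2 : u ∈ F ∙ u'
    · obtain ⟨a, rfl⟩ := Submodule.mem_span_singleton.1 h2
      have ha : a ≠ 0 := left_ne_zero_of_smul u0
      simpa [hasTv_smul, smul_smul, ha] using h (a⁻¹ * c)
    obtain ⟨ψ, hψ, p1, p2⟩ := exists_dual hu h2
    have p3 := p2 u' (by rw [pj_of_mem hu']; exact Submodule.mem_span_singleton_self _)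
    simpa [p1] using (hasTv hX hu' hψ p3).comm (h c) p3 (by simp [hφ k ki u hu])
      (by simp [hφ k ki u' hu'])
  have h2 : ∀ u' ∈ blk b k, ∀ φ', Dual b i φ' → HasTv X u' φ' := fun u' hu' φ' hφ' => by
    by_cases h2 : φ ∈ F ∙ φ'
    · obtain ⟨a, rfl⟩ := Submodule.mem_span_singleton.1 h2
      have ha : a ≠ 0 := left_ne_zero_of_smul φ0
      simpa [smul_smul, ha] using h1 u' hu' a⁻¹
    obtain ⟨w, p1, p2⟩ := exists_vec_pair h2
    have p3 : φ' (pj b i w) = 0 := by rw [hφ'.pj, p2]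
    simpa [hφ.pj, p1] using (h1 u' hu' 1).comm (hasTv hX (pj_mem b i w) hφ' p3)
      (by simp [hφ k ki u' hu']) p3 (hφ' k ki u' hu')
  refine slV_le_of_basis b fun x y hxy c => ?_
  by_cases h3 : x.1 = y.1
  · refine hasTv hX (b_mem b x.1 x.2) (h3 ▸ (dual_coord y).smul c) ?_
    simp [Finsupp.single_apply, hxy]
  obtain ⟨σ, s1, s2⟩ : ∃ σ : Equiv.Perm ι, σ k = x.1 ∧ σ i = y.1 := by
    refine ⟨(Equiv.swap k x.1).trans (Equiv.swap (Equiv.swap k x.1 i) y.1), ?_, by simp⟩
    rw [Equiv.trans_apply, Equiv.swap_apply_left]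
    refine Equiv.swap_apply_of_ne_of_ne (fun h => ki ?_) h3
    apply (Equiv.swap k x.1).injective
    rw [← h, Equiv.swap_apply_left]
  obtain ⟨g, hg, hg'⟩ := exists_perm (b := b) σ
  have := (h2 (g.symm (b x)) (by
    rw [← Submodule.mem_map_equiv, hg', s1]; exact b_mem b x.1 x.2) ((c • b.coord y) ∘ₗ g)
    fun j hj v hv => ((dual_coord y).smul c) (σ j) (fun h => hj (σ.injective (h.trans s2.symm)))
      _ (hg' j ▸ ⟨v, hv, rfl⟩)).conj (hX ⟨hg, σ, hg'⟩)
  rw [LinearEquiv.apply_symm_apply] at this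
  exact this.congr fun x => by simp

variable (h2 : 2 ≤ Fintype.card κ)
include h2

omit [Fintype ι] [DecidableEq κ] in
theorem win_of {a : V} {α : V →ₗ[F] F} (h0 : α a = 0) (h : ∀ c : F, HasTv X a (c • α)) {i : ι}
    (ha : a ∉ blk b i) {u : V} (hu : u ∈ blk b i) (h1 : α u ≠ 0) {φ : V →ₗ[F] F}
    (hφ : Dual b i φ) (φ0 : φ ≠ 0) (p1 : φ u = 0) (p2 : φ a = 0) : Win b X := by
  have h3 : ∀ c : F, HasTv X a (c • φ) := fun c => by
    simpa [h1] using (h (c / α u)).comm (hasTv hX hu hφ p1) (by simp [h0]) p1 p2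
  obtain ⟨k, ki, hk⟩ := exists_pj_ne ha
  obtain ⟨w, hw, w0, h4, -⟩ := exists_dual' (b := b) k
    ((finrank_span_singleton_le (pj b k a)).trans_lt h2)
  obtain ⟨ψ, hψ, q1, q2⟩ := exists_dual (pj_mem b k a) (W := F ∙ w) fun h => by
    obtain ⟨c, hc⟩ := Submodule.mem_span_singleton.1 h
    have : c ≠ 0 := by rintro rfl; exact hk (by simpa using hc.symm)
    exact h4 (Submodule.mem_span_singleton.2 ⟨c⁻¹, by rw [← hc, smul_smul]; simp [this]⟩)
  have q3 := q2 w (by rw [pj_of_mem hw]; exact Submodule.mem_span_singleton_self _)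
  rw [hψ.pj] at q1
  exact ⟨i, k, ki, w, hw, w0, φ, hφ, φ0, fun c => by
    simpa [q1] using (hasTv hX hw hψ q3).comm (h3 c) q3 (by simp [p2]) (by simp [hφ k ki w hw])⟩

variable (h3 : 3 ≤ Fintype.card κ ∨ (3 ≤ Fintype.card ι ∧ ∃ c : F, c ≠ 0 ∧ c ≠ 1))
  (hW : ¬ Win b X)
include h3 hW

omit [DecidableEq κ] in
theorem exists_mem {a : V} {α : V →ₗ[F] F} (α0 : α ≠ 0) (h0 : α a = 0)
    (h : ∀ c : F, HasTv X a (c • α)) : ∃ i, a ∈ blk b i := by
  by_contra ha
  push Not at ha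
  obtain ⟨⟨j, k₀⟩, hj⟩ : ∃ x, α (b x) ≠ 0 := by
    by_contra h; push Not at h; exact α0 (b.ext h)
  have ne1 : ∀ {φ : V →ₗ[F] F} {w : V}, φ w = 1 → φ ≠ 0 := fun h h' => by simp [h'] at h
  rcases h3 with h3 | ⟨h3, l, l0, l1⟩
  · obtain ⟨w, -, -, -, φ, hφ, p1, p2⟩ := exists_dual' (b := b) j
      ((finrank_span_pair_le (b (j, k₀)) (pj b j a)).trans_lt h3)
    exact hW (win_of hX h2 h0 h (ha j) (b_mem b j k₀) hj hφ (ne1 p1)
      (p2 _ (by rw [pj_of_mem (b_mem b j k₀)]; exact Submodule.subset_span (by simp)))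
      (p2 _ (Submodule.subset_span (by simp))))
  obtain ⟨i, ij, hi⟩ := exists_pj_ne (ha j)
  have h4 : α (pj b i a) = 0 := by
    by_contra h4
    obtain ⟨w, -, -, -, φ, hφ, p1, p2⟩ := exists_dual' (b := b) i
      ((finrank_span_singleton_le (pj b i a)).trans_lt h2)
    have := p2 a (Submodule.mem_span_singleton_self _)
    exact hW (win_of hX h2 h0 h (ha i) (pj_mem b i a) h4 hφ (ne1 p1) (by rwa [hφ.pj]) this)
  obtain ⟨k, ki, kj⟩ : ∃ k, k ≠ i ∧ k ≠ j := by
    by_contra h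
    push Not at h
    have : (Finset.univ : Finset ι) ⊆ {i, j} := fun l _ => by
      have := h l
      simp only [Finset.mem_insert, Finset.mem_singleton]; tauto
    have := (Finset.card_le_card this).trans Finset.card_le_two
    simp at this; omega
  obtain ⟨e, he, e0, e1⟩ := exists_ne_zero_kers (blk b k) [α] (by rw [finrank_blk]; exact h2)
  replace e1 := e1 α (by simp)
  obtain ⟨γ, hγ, r1, -⟩ := exists_dual (pj_mem b i a) (W := ⊥) (by simpa using hi)
  obtain ⟨δ, hδ, r2, -⟩ := exists_dual he (W := ⊥) (by simpa using e0)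
  obtain ⟨g, hg, H⟩ := exists_dec (pj_mem b i a) (hγ.smul (l - 1)) (by simp [r1, l0])
  obtain ⟨g', hg', H'⟩ := exists_dec he (hδ.smul (l⁻¹ - 1)) (by simp [r2, l0])
  have h5 : g * g' ∈ X := hX ⟨mem_slV.2 (by
    rw [LinearEquiv.coe_toLinearMap_mul, map_mul, det_of_tv H, det_of_tv H']
    simp [r1, r2, l0]), mul_mem hg hg'⟩
  have h6 : ∀ x, α ((g * g') x) = α x := fun x => by simp [H, H', e1, h4]
  have h7 : (g * g') a - a = (l - 1) • pj b i a + ((l⁻¹ - 1) * δ a) • e := by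
    rw [hγ.pj] at r1
    simp [H, H', r1, hγ k ki e he]; abel
  obtain ⟨w, -, -, -, φ, hφ, p1, p2⟩ := exists_dual' (b := b) j
    ((finrank_span_singleton_le (b (j, k₀))).trans_lt h2)
  refine hW (win_of hX h2 (a := (g * g') a - a) (by rw [map_sub, h6, sub_self]) (fun c => ?_)
    (fun h => ?_) (b_mem b j k₀) hj hφ (ne1 p1)
    (p2 _ (by rw [pj_of_mem (b_mem b j k₀)]; exact Submodule.mem_span_singleton_self _)) ?_)
  · refine HasTv.sub_left (((h c).conj h5).congr fun x => ?_) (h c) (by simp [h0])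
    have := h6 ((g * g')⁻¹ x)
    rw [lin_apply_inv] at this
    simp only [LinearMap.smul_apply, LinearMap.comp_apply, LinearEquiv.coe_coe, this]
  · have := pj_of_ne h ij.symm
    rw [h7, map_add, map_smul, map_smul, pj_of_ne he ki, pj_of_mem (pj_mem b i a)] at this
    simp [sub_ne_zero.2 l1, hi] at this
  · rw [h7]; simp [hφ i ij _ (pj_mem b i a), hφ k kj e he]

omit [DecidableEq κ] in
theorem exists_map {g : V ≃ₗ[F] V} (hg : g ∈ X) (j : ι) : ∃ i, ∀ a ∈ blk b j, g a ∈ blk b i := by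
  have h1 : ∀ a ∈ blk b j, ∃ i, g a ∈ blk b i := fun a ha => by
    obtain ⟨w, -, -, -, φ, hφ, p1, p2⟩ := exists_dual' (b := b) j
      ((finrank_span_singleton_le a).trans_lt h2)
    have p3 := p2 a (by rw [pj_of_mem ha]; exact Submodule.mem_span_singleton_self _)
    refine exists_mem hX h2 h3 hW (α := φ ∘ₗ (g⁻¹ : V ≃ₗ[F] V)) (fun h => ?_) (by simp [p3])
      fun c => ((hasTv hX ha (hφ.smul c) (by simp [p3])).conj hg).congr fun x => by simp
    simpa [p1] using LinearMap.congr_fun h (g w)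
  obtain ⟨k⟩ : Nonempty κ := Fintype.card_pos_iff.1 (by omega)
  obtain ⟨i, hi⟩ := h1 _ (b_mem b j k)
  refine ⟨i, fun a ha => ?_⟩
  obtain ⟨i', hi'⟩ := h1 a ha
  obtain ⟨i'', hi''⟩ := h1 _ (add_mem ha (b_mem b j k))
  by_cases h4 : i'' = i
  · subst h4; simpa using sub_mem hi'' hi
  by_cases h5 : i' = i
  · exact h5 ▸ hi'
  have := pj_of_ne hi'' h4
  rw [map_add, map_add, pj_of_ne hi' h5, pj_of_mem hi, zero_add, map_eq_zero_iff _ g.injective]
    at this
  exact absurd this (b.ne_zero _)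

omit hW in
theorem slV_le (h : ¬ X ≤ decL (blk b)) : slV F V ≤ X := by
  have : Nonempty κ := Fintype.card_pos_iff.1 (by omega)
  refine Win.slV_le hX (by_contra fun hW => h fun g hg =>
    mem_decL_of_forall (blk_inj b) fun j => ?_)
  obtain ⟨i, hi⟩ := exists_map hX h2 h3 hW hg j
  refine ⟨i, Submodule.eq_of_le_of_finrank_eq ?_ ?_⟩
  · rintro _ ⟨a, ha, rfl⟩; exact hi a ha
  · rw [LinearEquiv.finrank_map_eq, finrank_blk, finrank_blk]

end Blk

theorem exists_blk_basis {t m : ℕ} {κ : Type} [Fintype κ] {D : Fin t → Submodule F (κ → F)}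
    (hD : IsMDecomposition m D) : ∃ b : Basis (Fin t × Fin m) F (κ → F), D = Blk.blk b := by
  have h := DirectSum.isInternal_submodule_of_iSupIndep_of_iSup_eq_top hD.indep hD.iSup_eq_top
  let v : ∀ i, Basis (Fin m) F (D i) := fun i => finBasisOfFinrankEq F _ (hD.finrank_eq i)
  refine ⟨(h.collectedBasis v).reindex (Equiv.sigmaEquivProd _ _), funext fun i =>
    (Submodule.eq_of_le_of_finrank_eq ?_ ?_).symm⟩
  · rw [Blk.blk, Submodule.span_le]
    rintro _ ⟨k, rfl⟩
    simp only [Basis.reindex_apply, DirectSum.IsInternal.collectedBasis_coe]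
    exact (v i k).2
  · rw [Blk.finrank_blk, hD.finrank_eq]; simp

omit [Field F] in
theorem exists_avoid4 [Fintype F] (h : 5 ≤ Fintype.card F) (a b c d : F) :
    ∃ x, x ≠ a ∧ x ≠ b ∧ x ≠ c ∧ x ≠ d := Fr.exists_ne4 h a b c d

theorem not_slV_le_decL [FiniteDimensional F V] [Fintype ι] [DecidableEq ι] [Nontrivial ι]
    [Nonempty κ] (b : Basis (ι × κ) F V) : ¬ slV F V ≤ decL (Blk.blk b) := fun h => by
  classical
  obtain ⟨i, j, hij⟩ := exists_pair_ne ι
  obtain ⟨k⟩ := ‹Nonempty κ›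
  obtain ⟨g, hg, H⟩ := exists_tv (u := b (j, k)) (φ := b.coord (i, k))
    (by simp [Finsupp.single_apply, hij.symm])
  obtain ⟨σ, hσ⟩ := h hg
  have h1 : g (b (i, k)) ∈ Blk.blk b (σ i) := hσ i ▸ ⟨_, Blk.b_mem b i k, rfl⟩
  rw [Blk.mem_blk, H] at h1
  by_cases h2 : i = σ i
  · simpa [Finsupp.single_apply, hij] using h1 (j, k) (h2 ▸ hij.symm)
  · simpa [Finsupp.single_apply, hij.symm] using h1 (i, k) h2

theorem sl_max_dec [Fintype F] {κ : Type} [Fintype κ] [DecidableEq κ] (hn : 5 ≤ Fintype.card κ)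
    {t m : ℕ} {D : Fin t → Submodule F (κ → F)} (hD : IsMDecomposition m D)
    (h1 : ¬ (m = 1 ∧ Fintype.card F ≤ 4)) (h2 : ¬ (m = 2 ∧ Fintype.card F = 2)) :
    IsMaximalIn (specialLinear κ F) (decompositionStabilizer D ⊓ specialLinear κ F) := by
  obtain ⟨b, rfl⟩ := exists_blk_basis hD
  have hc := (finrank_eq_card_basis b).symm.trans (finrank_fintype_fun_eq_card F)
  simp only [Fintype.card_prod, Fintype.card_fin] at hc
  have := hD.pos
  have := hD.two_le
  have : Nonempty (Fin m) := ⟨⟨0, by omega⟩⟩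
  have : Nontrivial (Fin t) := Fin.nontrivial_iff_two_le.2 hD.two_le
  refine isMaximalIn_map' (specialLinear_eq) (comap_decompositionStabilizer' _) ofLin_injective
    (not_slV_le_decL b) fun X hS hX h => ?_
  by_cases hm : m = 1
  · subst hm
    have h3 : decL (Blk.blk b) = Fr.mono (b.reindex (Equiv.prodUnique _ _)) := by
      rw [Fr.mono]; congr 1; ext1 i
      simp [Blk.blk, Set.range_unique]
    rw [h3] at hX h
    exact Fr.slV_le hS hX (by simp; omega) (exists_avoid4 (by omega)) h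
  refine Blk.slV_le hX (by simp; omega) ?_ h
  by_cases hm' : m = 2
  · subst hm'
    refine Or.inr ⟨by simp; omega, ?_⟩
    have : 1 < Fintype.card F := Fintype.one_lt_card
    obtain ⟨c, h0, h1⟩ : ∃ c : F, c ≠ 0 ∧ c ≠ 1 := by
      classical
      by_contra h
      push Not at h
      have : (Finset.univ : Finset F) ⊆ {0, 1} := by
        intro l _
        have := h l
        simp only [Finset.mem_insert, Finset.mem_singleton]; tauto
      have := (Finset.card_le_card this).trans Finset.card_le_two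
      simp at this; omega
    exact ⟨c, h0, h1⟩
  · left; simp; omega

end Cfsg.Lib.Forms
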