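import Cfsg.Agent.Lib.Max2.U

/-! Monomial groups and their overgroups in `GL` and `SL`. -/

set_option autoImplicit false

namespace Cfsg.Lib.Forms

open Module Cfsg.Geo

variable {F : Type*} [Field F] {V : Type*} [AddCommGroup V] [Module F V] {ι : Type*}

/-- The stabiliser of a family of subspaces. -/
def decL (D : ι → Submodule F V) : Subgroup (V ≃ₗ[F] V) where
  carrier := {g | ∃ σ : Equiv.Perm ι, ∀ i, (D i).map (g : V →ₗ[F] V) = D (σ i)}
  mul_mem' := by
    rintro a b ⟨σ, hσ⟩ ⟨τ, hτ⟩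
    refine ⟨τ.trans σ, fun i => ?_⟩
    rw [Equiv.trans_apply, ← hσ, ← hτ, ← Submodule.map_comp]; rfl
  one_mem' := ⟨1, fun i => by ext x; simp⟩
  inv_mem' := by
    rintro a ⟨σ, hσ⟩
    refine ⟨σ.symm, fun i => ?_⟩
    have h := hσ (σ.symm i)
    rw [Equiv.apply_symm_apply] at h
    rw [← h, ← Submodule.map_comp]
    have : ((a⁻¹ : V ≃ₗ[F] V) : V →ₗ[F] V) ∘ₗ (a : V →ₗ[F] V) = LinearMap.id :=
      LinearMap.ext fun x => lin_inv_apply a x
    rw [this, Submodule.map_id]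

theorem mem_decL_of_forall [Finite ι] {D : ι → Submodule F V} (hD : Function.Injective D)
    {g : V ≃ₗ[F] V} (h : ∀ i, ∃ j, (D i).map (g : V →ₗ[F] V) = D j) : g ∈ decL D := by
  choose f hf using h
  have hi : Function.Injective f := fun i j hij => hD
    (Submodule.map_injective_of_injective (f := (g : V →ₗ[F] V)) g.injective
      (by rw [hf, hf, hij]))
  exact ⟨Equiv.ofBijective f hi.bijective_of_finite, hf⟩

theorem comap_decompositionStabilizer' {κ : Type} [Fintype κ] [DecidableEq κ] {t : ℕ}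
    (D : Fin t → Submodule F (κ → F)) :
    (decompositionStabilizer D).comap (ofLin F κ) = decL D := by
  ext g
  change (∃ σ : Equiv.Perm (Fin t), ∀ i, (D i).map (Matrix.toLin' _) = D (σ i)) ↔ _
  rw [toLin'_ofLin]; rfl

theorem det_of_tv [FiniteDimensional F V] {g : V ≃ₗ[F] V} {u : V} {φ : V →ₗ[F] F}
    (h : ∀ x, g x = x + φ x • u) : LinearMap.det (g : V →ₗ[F] V) = 1 + φ u := by
  rw [← LinearMap.transvection.det φ u]; congr 1; ext x
  simp [h, LinearMap.transvection.apply]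

theorem HasTv.congr {X : Subgroup (V ≃ₗ[F] V)} {u u' : V} {φ φ' : V →ₗ[F] F} (h : HasTv X u φ)
    (H : ∀ x, φ' x • u' = φ x • u) : HasTv X u' φ' := by
  obtain ⟨g, hg, h⟩ := h
  exact ⟨g, hg, fun x => by rw [h, H]⟩

theorem HasTv.sub {X : Subgroup (V ≃ₗ[F] V)} {u : V} {φ ψ : V →ₗ[F] F} (h : HasTv X u φ)
    (h' : HasTv X u ψ) (h0 : φ u = 0) (h1 : ψ u = 0) : HasTv X u (φ - ψ) := by
  rw [sub_eq_add_neg]; exact h.add (h'.neg h1) h0

theorem HasTv.sub_left {X : Subgroup (V ≃ₗ[F] V)} {u v : V} {φ : V →ₗ[F] F} (h : HasTv X u φ)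
    (h' : HasTv X v φ) (h1 : φ v = 0) : HasTv X (u - v) φ := by
  rw [sub_eq_add_neg]; exact h.add_left (h'.neg_left h1) (by simp [h1])

namespace Fr

variable (b : Basis ι F V)

/-- The monomial group of a basis. -/
def mono : Subgroup (V ≃ₗ[F] V) := decL fun i => F ∙ b i

theorem span_inj : Function.Injective fun i => F ∙ b i := fun i j h => by
  by_contra hij
  have h1 : b i ∈ F ∙ b j := by
    have h' : (F ∙ b i) = F ∙ b j := h
    rw [← h']; exact Submodule.mem_span_singleton_self _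
  obtain ⟨c, hc⟩ := Submodule.mem_span_singleton.1 h1
  have := congrArg (fun x => b.repr x i) hc
  simp [Finsupp.single_eq_of_ne hij] at this

variable {b}

theorem mem_mono [Finite ι] {g : V ≃ₗ[F] V} :
    g ∈ mono b ↔ ∀ i, ∃ j, ∃ c : F, g (b i) = c • b j := by
  constructor
  · rintro ⟨σ, h⟩ i
    have : g (b i) ∈ F ∙ b (σ i) := by
      have h' : (F ∙ b i).map (g : V →ₗ[F] V) = F ∙ b (σ i) := h i
      rw [← h']; exact ⟨b i, Submodule.mem_span_singleton_self _, rfl⟩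
    obtain ⟨c, hc⟩ := Submodule.mem_span_singleton.1 this
    exact ⟨σ i, c, hc.symm⟩
  · intro h
    refine mem_decL_of_forall (span_inj b) fun i => ?_
    obtain ⟨j, c, hc⟩ := h i
    have h0 : c ≠ 0 := by
      rintro rfl
      exact b.ne_zero i (g.injective (by simpa using hc))
    refine ⟨j, ?_⟩
    rw [Submodule.map_span, Set.image_singleton, LinearEquiv.coe_coe, hc,
      Submodule.span_singleton_smul_eq (IsUnit.mk0 c h0)]

variable (b)

/-- The monomial map `b i ↦ t (σ i) • b (σ i)`. -/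
noncomputable def mon (σ : Equiv.Perm ι) (t : ι → Fˣ) : V ≃ₗ[F] V := b.equiv (b.unitsSMul t) σ

theorem mon_b (σ : Equiv.Perm ι) (t : ι → Fˣ) (i : ι) :
    mon b σ t (b i) = (t (σ i) : F) • b (σ i) := by
  simp [mon, Basis.unitsSMul_apply, Units.smul_def]

variable [Fintype ι] [DecidableEq ι]

omit [Fintype ι] [DecidableEq ι] in
theorem repr_mon (σ : Equiv.Perm ι) (t : ι → Fˣ) (v : V) (i : ι) :
    b.repr (mon b σ t v) (σ i) = t (σ i) * b.repr v i := by
  classical
  have : (b.coord (σ i)) ∘ₗ (mon b σ t : V →ₗ[F] V) = (t (σ i) : F) • b.coord i :=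
    b.ext fun j => by
      by_cases h : j = i
      · subst h; simp [mon_b]
      · simp [mon_b, Finsupp.single_apply, h]
  exact LinearMap.congr_fun this v

omit [DecidableEq ι] in
theorem mon_mem (σ : Equiv.Perm ι) (t : ι → Fˣ) : mon b σ t ∈ mono b :=
  mem_mono.2 fun i => ⟨_, _, mon_b b σ t i⟩

theorem det_mon (σ : Equiv.Perm ι) (t : ι → Fˣ) :
    LinearMap.det (mon b σ t : V →ₗ[F] V) = ((Equiv.Perm.sign σ : ℤ) : F) * ∏ i, (t i : F) := by
  have h1 := b.det_comp (mon b σ t : V →ₗ[F] V) b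
  rw [b.det_self, mul_one] at h1
  rw [← h1]
  have h2 : ((mon b σ t : V →ₗ[F] V) ∘ b) = (fun i => (t i : F) • b i) ∘ σ := by
    ext i; simp [mon_b]
  rw [h2, AlternatingMap.map_perm, AlternatingMap.map_smul_univ, b.det_self]
  simp [Units.smul_def]

/-- Diagonal maps. -/
noncomputable def dg (t : ι → Fˣ) : V ≃ₗ[F] V := mon b 1 t

omit [Fintype ι] [DecidableEq ι] in
@[simp] theorem dg_b (t : ι → Fˣ) (i : ι) : dg b t (b i) = (t i : F) • b i := mon_b b 1 t i

omit [Fintype ι] [DecidableEq ι] in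
@[simp] theorem repr_dg (t : ι → Fˣ) (v : V) (i : ι) :
    b.repr (dg b t v) i = t i * b.repr v i := repr_mon b 1 t v i

omit [Fintype ι] [DecidableEq ι] in
@[simp] theorem dg_inv_b (t : ι → Fˣ) (i : ι) : (dg b t).symm (b i) = (t i : F)⁻¹ • b i := by
  apply (dg b t).injective
  rw [LinearEquiv.apply_symm_apply]; simp [smul_smul]

omit [Fintype ι] [DecidableEq ι] in
@[simp] theorem repr_dg_inv (t : ι → Fˣ) (v : V) (i : ι) :
    b.repr ((dg b t).symm v) i = (t i : F)⁻¹ * b.repr v i := by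
  have := repr_dg b t ((dg b t).symm v) i
  rw [LinearEquiv.apply_symm_apply] at this
  rw [this]; simp

theorem det_dg (t : ι → Fˣ) : LinearMap.det (dg b t : V →ₗ[F] V) = ∏ i, (t i : F) := by
  simp [dg, det_mon]

omit [DecidableEq ι] in
theorem dg_mem (t : ι → Fˣ) : dg b t ∈ mono b := mon_mem b 1 t

/-- `diag (ε at i, ε⁻¹ at j)`. -/
def d2 (i j : ι) (ε : Fˣ) : ι → Fˣ := Pi.mulSingle i ε * Pi.mulSingle j ε⁻¹

omit [Fintype ι] in
theorem d2_left {i j : ι} (h : i ≠ j) (ε : Fˣ) : d2 i j ε i = ε := by simp [d2, h]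

omit [Fintype ι] in
theorem d2_right {i j : ι} (h : i ≠ j) (ε : Fˣ) : d2 i j ε j = ε⁻¹ := by simp [d2, h.symm]

omit [Fintype ι] in
theorem d2_ne {i j k : ι} (h : k ≠ i) (h' : k ≠ j) (ε : Fˣ) : d2 i j ε k = 1 := by
  simp [d2, h, h']

theorem d2_mem (i j : ι) (ε : Fˣ) : dg b (d2 i j ε) ∈ slV F V ⊓ mono b := by
  refine ⟨?_, dg_mem b _⟩
  change dg b (d2 i j ε) ∈ slV F V
  rw [mem_slV, det_dg, ← Units.coe_prod]
  simp [d2, Finset.prod_mul_distrib]

/-- Determinant correction at the coordinate `k`. -/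
theorem exists_fix {g : V ≃ₗ[F] V} (hg : g ∈ mono b) (k : ι) :
    ∃ h ∈ slV F V ⊓ mono b, ∃ c : Fˣ, ∀ x, h x = g (dg b (Pi.mulSingle k c) x) := by
  refine ⟨g * dg b (Pi.mulSingle k (LinearEquiv.det g)⁻¹), ⟨?_, mul_mem hg (dg_mem b _)⟩, _,
    fun x => rfl⟩
  change _ ∈ slV F V
  rw [mem_slV, LinearEquiv.coe_toLinearMap_mul, map_mul, det_dg, ← Units.coe_prod]
  simp [← LinearEquiv.coe_det]

variable {b} {X : Subgroup (V ≃ₗ[F] V)}

variable (b X) in
/-- `X` contains an elementary transvection. -/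
def Win : Prop := ∃ i j, ∃ c : F, i ≠ j ∧ c ≠ 0 ∧ HasTv X (b i) (c • b.coord j)

omit [DecidableEq ι] in
theorem exists_ne3 (h4 : 4 ≤ Fintype.card ι) (i j k : ι) : ∃ l, l ≠ i ∧ l ≠ j ∧ l ≠ k := by
  classical
  by_contra h
  push Not at h
  have : (Finset.univ : Finset ι) ⊆ {i, j, k} := fun l _ => by
    have := h l
    simp only [Finset.mem_insert, Finset.mem_singleton]; tauto
  have := (Finset.card_le_card this).trans Finset.card_le_three
  simp at this; omega

section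
variable (hX : slV F V ⊓ mono b ≤ X) (h4 : 4 ≤ Fintype.card ι) {ε : Fˣ} (hε : ε ≠ 1)
include hX h4 hε

theorem win_of_centre {i : ι} {φ : V →ₗ[F] F} (h : HasTv X (b i) φ) (h0 : φ (b i) = 0)
    (h1 : φ ≠ 0) : Win b X := by
  obtain ⟨j, hj⟩ : ∃ j, φ (b j) ≠ 0 := by
    by_contra h; push Not at h; exact h1 (b.ext h)
  have hij : i ≠ j := by rintro rfl; exact hj h0
  obtain ⟨k, ki, kj, -⟩ := exists_ne3 h4 i j j
  obtain ⟨l, li, lj, lk⟩ := exists_ne3 h4 i j k
  have key : ∀ {φ : V →ₗ[F] F} {k : ι}, HasTv X (b i) φ → φ (b i) = 0 → k ≠ i →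
      HasTv X (b i) (φ ∘ₗ ((dg b (d2 j k ε))⁻¹ : V ≃ₗ[F] V) - φ) := fun {φ k} h h0 ki => by
    have := h.conj (hX (d2_mem b j k ε))
    rw [dg_b, d2_ne hij ki.symm, Units.val_one, one_smul] at this
    exact this.sub h (by simp [h0]) h0
  have h3 := key (key h h0 ki) (by simp [h0]) li
  have he : (ε : F)⁻¹ - 1 ≠ 0 := by
    rw [sub_ne_zero]; simpa using hε
  refine ⟨i, j, ((ε : F)⁻¹ - 1) ^ 2 * φ (b j), hij, by simp [he, hj], ?_⟩
  convert h3 using 1
  refine b.ext fun m => ?_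
  by_cases hm : m = j
  · subst hm; simp [d2_left kj.symm, d2_left lj.symm]; ring
  by_cases hm' : m = k
  · subst hm'; simp [d2_ne hm lk.symm, Finsupp.single_apply, hm]
  · simp [d2_ne hm hm', Finsupp.single_apply, hm]

theorem win_of_axis {j : ι} {u : V} (h : HasTv X u (b.coord j)) (h0 : b.repr u j = 0)
    (h1 : u ≠ 0) : Win b X := by
  obtain ⟨i, hi⟩ : ∃ i, b.repr u i ≠ 0 := by
    by_contra h; push Not at h; exact h1 (b.ext_elem fun i => by simp [h])
  have hij : i ≠ j := by rintro rfl; exact hi h0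
  obtain ⟨k, ki, kj, -⟩ := exists_ne3 h4 i j j
  obtain ⟨l, li, lj, lk⟩ := exists_ne3 h4 i j k
  have key : ∀ {u : V} {k : ι}, HasTv X u (b.coord j) → b.repr u j = 0 → k ≠ j →
      HasTv X (dg b (d2 i k ε) u - u) (b.coord j) := fun {u k} h h0 kj => by
    have := h.conj (hX (d2_mem b i k ε))
    refine HasTv.sub_left (this.congr fun x => ?_) h (by simpa using h0)
    simp [d2_ne hij.symm kj.symm]
  have h3 := key (key h h0 kj) (by simp [h0]) lj
  have he : (ε : F) - 1 ≠ 0 := by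
    rw [sub_ne_zero]; simpa using hε
  refine ⟨i, j, ((ε : F) - 1) ^ 2 * b.repr u i, hij, by simp [he, hi], hasTv_smul.1 ?_⟩
  convert h3 using 1
  refine b.ext_elem fun m => ?_
  by_cases hm : m = i
  · subst hm; simp [d2_left ki.symm, d2_left li.symm]; ring
  by_cases hm' : m = k
  · subst hm'; simp [d2_ne hm lk.symm, Finsupp.single_apply, Ne.symm hm]
  · simp [d2_ne hm hm', Finsupp.single_apply, Ne.symm hm]

omit hε in
theorem Win.slV_le [FiniteDimensional F V] (h : Win b X) : slV F V ≤ X := by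
  obtain ⟨i, j, c, hij, hc, h⟩ := h
  refine slV_le_of_basis b fun i' j' hij' c' => ?_
  by_cases hc' : c' = 0
  · subst hc'; rw [zero_smul]; exact hasTv_zero _
  obtain ⟨k, ki, kj, -⟩ := exists_ne3 h4 i j j
  obtain ⟨σ, h1, h2⟩ : ∃ σ : Equiv.Perm ι, σ i = i' ∧ σ j = j' := by
    refine ⟨(Equiv.swap i i').trans (Equiv.swap (Equiv.swap i i' j) j'), ?_, by simp⟩
    rw [Equiv.trans_apply, Equiv.swap_apply_left]
    refine Equiv.swap_apply_of_ne_of_ne (fun h => hij ?_) hij'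
    apply (Equiv.swap i i').injective
    rw [← h, Equiv.swap_apply_left]
  obtain ⟨g, hg, a, ha⟩ := exists_fix b
    (mon_mem b σ (Pi.mulSingle i' (Units.mk0 (c' / c) (div_ne_zero hc' hc)))) k
  refine (h.conj (hX hg)).congr fun x => ?_
  obtain ⟨y, rfl⟩ := g.surjective x
  have h3 := repr_mon b σ (Pi.mulSingle i' (Units.mk0 (c' / c) (div_ne_zero hc' hc)))
    (dg b (Pi.mulSingle k a) y) j
  rw [h2, ← ha] at h3
  simp [lin_inv_apply, ha (b i), ki.symm, mon_b, h1, h3, hij'.symm, kj.symm, smul_smul]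
  congr 1; field_simp

end

/-- A full group of homologies. -/
def Pair (L : Subgroup (V ≃ₗ[F] V)) (u : V) (φ : V →ₗ[F] F) : Prop :=
  φ u = 1 ∧ ∀ ε : F, ε ≠ 0 → HasTv L u ((ε - 1) • φ)

section General
variable {L : Subgroup (V ≃ₗ[F] V)}

omit [Fintype ι] [DecidableEq ι] in
theorem Pair.conj {u : V} {φ : V →ₗ[F] F} (h : Pair L u φ) {g : V ≃ₗ[F] V} (hg : g ∈ L) :
    Pair L (g u) (φ ∘ₗ (g⁻¹ : V ≃ₗ[F] V)) :=
  ⟨by simp [lin_inv_apply, h.1], fun ε hε => ((h.2 ε hε).conj hg).congr fun x => by simp⟩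

omit [Fintype ι] [DecidableEq ι] in
theorem Pair.act {u u' : V} {φ φ' : V →ₗ[F] F} (h : Pair L u φ) (h' : Pair L u' φ') {η : F}
    (hη : η ≠ 0) : Pair L (u + ((η - 1) * φ' u) • u') (φ + ((η⁻¹ - 1) * φ u') • φ') := by
  obtain ⟨g, hg, H⟩ := h'.2 η hη
  have h1 := h.conj hg
  rw [H] at h1
  have h2 : (φ + ((η⁻¹ - 1) * φ u') • φ') = φ ∘ₗ (g⁻¹ : V ≃ₗ[F] V) := ?_
  · rw [h2]; exact h1
  ext x
  have : g.symm x = x + ((η⁻¹ - 1) * φ' x) • u' := by
    apply g.injective
    rw [LinearEquiv.apply_symm_apply, H, add_assoc, ← add_smul]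
    simp only [LinearMap.smul_apply, map_add, map_smul, h'.1, smul_eq_mul]
    rw [show (η⁻¹ - 1) * φ' x + ((η - 1) * φ' x + (η⁻¹ - 1) * φ' x * ((η - 1) * 1)) = 0 by
      field_simp; ring]
    simp
  simp [this]; ring

omit [Fintype ι] [DecidableEq ι] in
theorem Pair.axis {u u' : V} {φ : V →ₗ[F] F} (h : Pair L u φ) (h' : Pair L u' φ) {ε : F}
    (hε : ε ≠ 0) : HasTv L (u - u') ((1 - ε⁻¹) • φ) := by
  obtain ⟨g, hg, H⟩ := h.2 ε hε
  obtain ⟨g', hg', H'⟩ := h'.2 ε⁻¹ (inv_ne_zero hε)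
  refine ⟨g * g', mul_mem hg hg', fun x => ?_⟩
  simp only [LinearEquiv.mul_apply, H, H', LinearMap.smul_apply, map_add, map_smul, h'.1,
    smul_eq_mul]
  match_scalars <;> field_simp <;> ring

omit [Fintype ι] [DecidableEq ι] in
theorem Pair.centre {u : V} {φ φ' : V →ₗ[F] F} (h : Pair L u φ) (h' : Pair L u φ') {ε : F}
    (hε : ε ≠ 0) : HasTv L u ((ε - 1) • (φ - φ')) := by
  obtain ⟨g, hg, H⟩ := h.2 ε hε
  obtain ⟨g', hg', H'⟩ := h'.2 ε⁻¹ (inv_ne_zero hε)
  refine ⟨g * g', mul_mem hg hg', fun x => ?_⟩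
  simp only [LinearEquiv.mul_apply, H, H', LinearMap.smul_apply, map_add, map_smul, h.1,
    smul_eq_mul, LinearMap.sub_apply]
  match_scalars
  · ring
  · field_simp; ring

variable (hL : mono b ≤ L) (h4 : 4 ≤ Fintype.card ι) {ε ε' : F} (e0 : ε ≠ 0) (e1 : ε ≠ 1)
  (hW : ¬ Win b L)
include hL

theorem pair_basis (i : ι) : Pair L (b i) (b.coord i) := by
  refine ⟨by simp, fun ε hε => ⟨dg b (Pi.mulSingle i (Units.mk0 ε hε)), hL (dg_mem b _),
    fun x => b.ext_elem fun j => ?_⟩⟩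
  by_cases h : j = i
  · subst h; simp; ring
  · simp [h, Finsupp.single_apply, Ne.symm h]

include h4 e0 e1 hW

theorem Pair.zero_iff {u : V} {φ : V →ₗ[F] F} (h : Pair L u φ) (i : ι) :
    b.repr u i = 0 ↔ φ (b i) = 0 := by
  have h1 := h.act (pair_basis hL i) e0
  have he : (Units.mk0 ε e0) ≠ 1 := fun h => e1 (congrArg Units.val h)
  have he' : ε - 1 ≠ 0 := sub_ne_zero.2 e1
  have he'' : ε⁻¹ - 1 ≠ 0 := sub_ne_zero.2 (by simpa using e1)
  constructor
  · intro h0
    by_contra h2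
    simp only [Basis.coord_apply, h0, mul_zero, zero_smul, add_zero] at h1
    have h3 := h1.centre h e0
    rw [add_sub_cancel_left, smul_smul, ← hasTv_smul] at h3
    refine hW (win_of_axis (inf_le_right.trans hL) h4 he h3 (by simp [h0]) ?_)
    refine smul_ne_zero (by simp [he', he'', h2]) ?_
    rintro rfl; simpa using h.1
  · intro h0
    by_contra h2
    simp only [Basis.coord_apply, h0, mul_zero, zero_smul, add_zero] at h1
    have h3 := h1.axis h e0
    rw [add_sub_cancel_left, hasTv_smul, smul_smul] at h3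
    refine hW (win_of_centre (inf_le_right.trans hL) h4 he h3 (by simp [h0]) ?_)
    refine smul_ne_zero (by simp [he', sub_ne_zero.2 (sub_ne_zero.1 he'').symm, h2]) ?_
    rintro rfl; simpa using h.1

theorem Pair.of_one (f0 : ε' ≠ 0) (f1 : ε' ≠ 1) (f2 : ε' ≠ ε) (f3 : ε' * ε ≠ 1)
    {u : V} {φ : V →ₗ[F] F} (h : Pair L u φ) {i j : ι}
    (h1 : b.repr u i * φ (b i) = 1) (hij : j ≠ i) : b.repr u j = 0 := by
  by_contra h2
  have h3 : φ (b j) ≠ 0 := fun h' => h2 ((h.zero_iff hL h4 e0 e1 hW j).2 h')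
  have a1 : ε - 1 ≠ 0 := sub_ne_zero.2 e1
  have a2 : ε' - 1 ≠ 0 := sub_ne_zero.2 f1
  have a3 : -((ε' - 1) * ε / (ε - 1)) ≠ 0 := by simp [a1, a2, e0]
  have h5 := (((pair_basis hL i).act h e0).act (h.act (pair_basis hL i) a3) f0).zero_iff
    hL h4 e0 e1 hW j
  have hu : b.repr u i ≠ 0 := left_ne_zero_of_mul_eq_one h1
  have hφ : φ (b i) = (b.repr u i)⁻¹ := (inv_eq_of_mul_eq_one_right h1).symm
  simp only [map_add, map_smul, Basis.coord_apply, Basis.repr_self, Finsupp.add_apply,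
    Finsupp.smul_apply, LinearMap.add_apply, LinearMap.smul_apply, smul_eq_mul,
    Finsupp.single_eq_same, Finsupp.single_eq_of_ne hij, Finsupp.single_eq_of_ne hij.symm, h.1,
    hφ] at h5
  have h6 := h5.1 (by field_simp; ring)
  have : ε * (b.repr u i * φ (b j)) * (ε' - 1) * ((ε' - ε) * (ε' * ε - 1)) = 0 := by
    field_simp at h6
    linear_combination h6
  simp [sub_ne_zero.2 f2, sub_ne_zero.2 f3, e0, hu, h3, a2] at this

theorem Pair.half {u : V} {φ : V →ₗ[F] F} (h : Pair L u φ) {i : ι}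
    (h0 : b.repr u i ≠ 0) (h1 : b.repr u i * φ (b i) ≠ 1) : 2 * (b.repr u i * φ (b i)) = 1 := by
  have h3 : φ (b i) ≠ 0 := fun h' => h0 ((h.zero_iff hL h4 e0 e1 hW i).2 h')
  have a1 : b.repr u i * φ (b i) - 1 ≠ 0 := sub_ne_zero.2 h1
  have a3 : (b.repr u i * φ (b i) - 1) / (b.repr u i * φ (b i)) ≠ 0 := by simp [a1, h0, h3]
  have h5 := ((pair_basis hL i).act h a3).zero_iff hL h4 e0 e1 hW i
  simp only [map_add, map_smul, Basis.coord_apply, Basis.repr_self, Finsupp.add_apply,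
    Finsupp.smul_apply, LinearMap.add_apply, LinearMap.smul_apply, smul_eq_mul,
    Finsupp.single_eq_same] at h5
  have h6 := h5.1 (by field_simp; ring)
  field_simp at h6
  linear_combination h6

variable (f0 : ε' ≠ 0) (f1 : ε' ≠ 1) (f2 : ε' ≠ ε) (f3 : ε' * ε ≠ 1)
include f0 f1 f2 f3

theorem Pair.three {u : V} {φ : V →ₗ[F] F} (h : Pair L u φ) {i j k : ι} (hij : i ≠ j)
    (hik : i ≠ k) (hjk : j ≠ k) (hi : b.repr u i ≠ 0) (hj : b.repr u j ≠ 0) : b.repr u k = 0 := by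
  have a1 := h.half hL h4 e0 e1 hW hi fun h' => hj (h.of_one hL h4 e0 e1 hW f0 f1 f2 f3 h' hij.symm)
  have a2 := h.half hL h4 e0 e1 hW hj fun h' => hi (h.of_one hL h4 e0 e1 hW f0 f1 f2 f3 h' hij)
  have h5 := ((pair_basis hL i).act h (neg_ne_zero.2 one_ne_zero)).of_one hL h4 e0 e1 hW
    f0 f1 f2 f3 (i := j) (j := k) ?_ hjk.symm
  · simp only [map_add, map_smul, Basis.coord_apply, Basis.repr_self, Finsupp.add_apply,
      Finsupp.smul_apply, smul_eq_mul, Finsupp.single_eq_of_ne hik.symm] at h5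
    linear_combination (-b.repr u i) * h5 - b.repr u k * a1
  · simp only [map_add, map_smul, Basis.coord_apply, Basis.repr_self, Finsupp.add_apply,
      Finsupp.smul_apply, LinearMap.add_apply, LinearMap.smul_apply, smul_eq_mul,
      Finsupp.single_eq_of_ne hij, Finsupp.single_eq_of_ne hij.symm, inv_neg, inv_one]
    linear_combination (2 * (b.repr u j * φ (b j))) * a1 + a2

theorem Pair.std (g1 : ε * ε ≠ 1) {u : V} {φ : V →ₗ[F] F} (h : Pair L u φ) {i j : ι}
    (hij : i ≠ j) (hi : b.repr u i ≠ 0) : b.repr u j = 0 := by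
  by_contra hj
  obtain ⟨k, ki, kj, -⟩ := exists_ne3 h4 i j j
  have a2 := h.half hL h4 e0 e1 hW hj fun h' => hi (h.of_one hL h4 e0 e1 hW f0 f1 f2 f3 h' hij)
  have hk := h.three hL h4 e0 e1 hW f0 f1 f2 f3 hij ki.symm kj.symm hi hj
  have hk' := (h.zero_iff hL h4 e0 e1 hW k).1 hk
  set g := mon b (Equiv.swap i k) 1
  have r1 : b.repr (g u) i = 0 := by simpa [hk] using repr_mon b (Equiv.swap i k) 1 u k
  have r2 : b.repr (g u) k = b.repr u i := by simpa using repr_mon b (Equiv.swap i k) 1 u i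
  have r3 : ∀ m, m ≠ i → m ≠ k → b.repr (g u) m = b.repr u m := fun m h1 h2 => by
    simpa [Equiv.swap_apply_of_ne_of_ne h1 h2] using repr_mon b (Equiv.swap i k) 1 u m
  have r4 : g⁻¹ u = b.repr u i • b k + b.repr u j • b j := by
    apply g.injective
    rw [lin_apply_inv, map_add, map_smul, map_smul, mon_b, mon_b]
    refine b.ext_elem fun m => ?_
    by_cases hm : m = i
    · subst hm; simp [Equiv.swap_apply_of_ne_of_ne hij.symm kj.symm, Finsupp.single_apply, hij.symm]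
    by_cases hm' : m = j
    · subst hm'; simp [Equiv.swap_apply_of_ne_of_ne hij.symm kj.symm, Finsupp.single_apply, hij]
    · simp [Equiv.swap_apply_of_ne_of_ne hij.symm kj.symm, Finsupp.single_apply, Ne.symm hm,
        Ne.symm hm', h.three hL h4 e0 e1 hW f0 f1 f2 f3 hij (Ne.symm hm) (Ne.symm hm') hi hj]
  have h5 := (h.act (h.conj (hL (mon_mem b (Equiv.swap i k) 1))) e0).three hL h4 e0 e1 hW
    f0 f1 f2 f3 ki.symm hij kj ?_ ?_
  · simp only [map_add, map_smul, Finsupp.add_apply, Finsupp.smul_apply, smul_eq_mul,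
      LinearMap.comp_apply, LinearEquiv.coe_coe] at h5
    rw [r3 j hij.symm kj.symm, r4] at h5
    simp only [map_add, map_smul, hk', smul_eq_mul] at h5
    have : b.repr u j * (ε + 1) = 0 := by
      linear_combination 2 * h5 - (ε - 1) * b.repr u j * a2
    have h6 : ε + 1 = 0 := (mul_eq_zero.1 this).resolve_left hj
    exact g1 (by linear_combination (ε - 1) * h6)
  · simp only [map_add, map_smul, Finsupp.add_apply, Finsupp.smul_apply, smul_eq_mul]
    rw [r1]; simpa using hi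
  · simp only [map_add, map_smul, Finsupp.add_apply, Finsupp.smul_apply, smul_eq_mul,
      LinearMap.comp_apply, LinearEquiv.coe_coe]
    rw [r2, r4, hk]
    simp only [map_add, map_smul, hk', smul_eq_mul]
    intro h6
    have : (ε - 1) * b.repr u i = 0 := by
      linear_combination 2 * h6 - (ε - 1) * b.repr u i * a2
    simp [sub_ne_zero.2 e1, hi] at this

end General

end Fr

end Cfsg.Lib.Forms
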