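import Cfsg.Agent.Lib.Max2.U
import Cfsg.Agent.Lib.Asch.NM3

/-! The stabiliser of a tensor decomposition is maximal in `SL`. -/

set_option autoImplicit false

namespace Cfsg.Lib.Forms.Ten

open Module Cfsg.Geo TensorProduct

variable {F : Type*} [Field F] {U W : Type*} [AddCommGroup U] [Module F U] [AddCommGroup W]
  [Module F W] {X : Subgroup (U ⊗[F] W ≃ₗ[F] U ⊗[F] W)}

variable (U) in
/-- `v ↦ v ⊗ u`. -/
def cu (u : W) : U →ₗ[F] U ⊗[F] W := (mk F U W).flip u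

@[simp] theorem cu_apply (u : W) (v : U) : cu (F := F) U u v = v ⊗ₜ u := rfl

variable (U) in
/-- Contraction with a functional on the right factor. -/
noncomputable def ctr : (W →ₗ[F] F) →ₗ[F] U ⊗[F] W →ₗ[F] U :=
  (TensorProduct.rid F U).toLinearMap.compRight F ∘ₗ LinearMap.lTensorHom U

@[simp] theorem ctr_tmul (φ : W →ₗ[F] F) (v : U) (w : W) : ctr U φ (v ⊗ₜ w) = φ w • v := rfl

variable (W) in
/-- Contraction with a functional on the left factor. -/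
noncomputable def ctl (ψ : U →ₗ[F] F) : U ⊗[F] W →ₗ[F] W :=
  (TensorProduct.lid F W).toLinearMap ∘ₗ ψ.rTensor W

@[simp] theorem ctl_tmul (ψ : U →ₗ[F] F) (v : U) (w : W) : ctl W ψ (v ⊗ₜ w) = ψ v • w := rfl

theorem ctl_ctr (ψ : U →ₗ[F] F) (φ : W →ₗ[F] F) (Y : U ⊗[F] W) : φ (ctl W ψ Y) = ψ (ctr U φ Y) := by
  induction Y with
  | zero => simp
  | tmul v w => simp [mul_comm]
  | add a b ha hb => simp [ha, hb]

theorem cu_injective {u : W} (hu : u ≠ 0) : Function.Injective (cu (F := F) U u) := by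
  obtain ⟨φ, hφ⟩ := exists_dual_one (F := F) hu
  exact fun a b h => by simpa [hφ] using congrArg (ctr U φ) h

theorem eq_zero_of_ctr {Y : U ⊗[F] W} (h : ∀ φ, ctr U φ Y = 0) : Y = 0 := by
  classical
  let b := Basis.ofVectorSpace F W
  refine (TensorProduct.equivFinsuppOfBasisRight (M := U) b).injective (Finsupp.ext fun j => ?_)
  rw [map_zero, Finsupp.zero_apply, ← h (b.coord j)]
  clear h
  induction Y with
  | zero => simp
  | tmul v w => simp
  | add a b ha hb => simp [ha, hb]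

theorem mem_range_cu {u : W} (hu : u ≠ 0) {Y : U ⊗[F] W}
    (h : ∀ φ : W →ₗ[F] F, φ u = 0 → ctr U φ Y = 0) : Y ∈ LinearMap.range (cu U u) := by
  obtain ⟨φ, hφ⟩ := exists_dual_one (F := F) hu
  refine ⟨ctr U φ Y, (sub_eq_zero.1 (eq_zero_of_ctr fun χ => ?_)).symm⟩
  rw [← h (χ - χ u • φ) (by simp [hφ])]
  simp

variable (F U W) in
/-- The stabiliser of the tensor decomposition. -/
def tens : Subgroup (U ⊗[F] W ≃ₗ[F] U ⊗[F] W) where
  carrier := {g | ∃ a b, g = TensorProduct.congr a b}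
  mul_mem' := by rintro _ _ ⟨a, b, rfl⟩ ⟨c, d, rfl⟩; exact ⟨_, _, (congr_mul a b c d).symm⟩
  one_mem' := ⟨1, 1, congr_refl_refl.symm⟩
  inv_mem' := by rintro _ ⟨a, b, rfl⟩; exact ⟨a⁻¹, b⁻¹, (congr_symm a b).symm⟩

theorem mem_tens {g : U ⊗[F] W ≃ₗ[F] U ⊗[F] W} (a : U ≃ₗ[F] U) (b : W ≃ₗ[F] W)
    (h : ∀ v w, g (v ⊗ₜ w) = a v ⊗ₜ b w) : g ∈ tens F U W :=
  ⟨a, b, LinearEquiv.toLinearMap_injective (TensorProduct.ext' h)⟩

theorem exists_of_mem {g : U ⊗[F] W ≃ₗ[F] U ⊗[F] W} (h : g ∈ tens F U W) :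
    ∃ (a : U ≃ₗ[F] U) (b : W ≃ₗ[F] W), ∀ v w, g (v ⊗ₜ w) = a v ⊗ₜ b w := by
  obtain ⟨a, b, rfl⟩ := h; exact ⟨a, b, fun _ _ => rfl⟩

variable [FiniteDimensional F U] [FiniteDimensional F W]

/-- Elements of small rank. -/
theorem range_eq_of_mem (hn : finrank F U < finrank F W) {g : U ⊗[F] W ≃ₗ[F] U ⊗[F] W}
    (hg : g ∈ tens F U W) {B : U ⊗[F] W →ₗ[F] U ⊗[F] W} (hB : ∀ x, g x = x + B x) (h0 : B ≠ 0)
    (hr : finrank F (LinearMap.range B) ≤ finrank F U) :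
    ∃ u ≠ 0, LinearMap.range (cu U u) = LinearMap.range B ∧ finrank F (LinearMap.range B) = finrank F U := by
  obtain ⟨a, b, h⟩ := exists_of_mem hg
  have h1 : ∀ v w, B (v ⊗ₜ w) = a v ⊗ₜ b w - v ⊗ₜ w := fun v w => by rw [← h, hB]; simp
  by_cases h2 : ∀ c : F, (a : U →ₗ[F] U) ≠ c • 1
  · obtain ⟨v, ψ, h3, h4⟩ := exists_not_scalar h2
    have h5 : Function.Injective (B.rangeRestrict ∘ₗ mk F U W v) := by
      refine (injective_iff_map_eq_zero _).2 fun w hw => ?_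
      have := congrArg (fun y => ctl W ψ y.1) hw
      simpa [h1, h3, show ψ (a v) = 1 from h4] using this
    have := LinearMap.finrank_le_finrank_of_injective h5
    omega
  push Not at h2
  obtain ⟨c, hc⟩ := h2
  have h3 : ∀ v w, B (v ⊗ₜ w) = v ⊗ₜ (c • b w - w) := fun v w => by
    rw [h1, show a v = c • v from congrArg (· v) hc, smul_tmul, tmul_sub]
  obtain ⟨w, hw⟩ : ∃ w, c • b w - w ≠ 0 := by
    by_contra H
    push Not at H
    exact h0 (TensorProduct.ext' fun v w => by simp [h3, H])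
  have h4 : LinearMap.range (cu U (c • b w - w)) ≤ LinearMap.range B := by
    rintro _ ⟨v, rfl⟩; exact ⟨_, h3 v w⟩
  have h5 := LinearMap.finrank_range_of_inj (cu_injective (F := F) (U := U) hw)
  have h6 := Submodule.finrank_mono h4
  exact ⟨_, hw, Submodule.eq_of_le_of_finrank_le h4 (by omega), by omega⟩

theorem not_le (h2 : 2 ≤ finrank F U) (hn : finrank F U < finrank F W) :
    ¬ slV F (U ⊗[F] W) ≤ tens F U W := fun H => by
  have h1 : 2 ≤ finrank F (U ⊗[F] W) := by rw [finrank_tensorProduct]; nlinarith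
  obtain ⟨x, -, hx⟩ := exists_ne_zero_of_finrank_pos (U := (⊤ : Submodule F (U ⊗[F] W)))
    (by rw [finrank_top]; omega)
  obtain ⟨y, -, hy⟩ := exists_not_mem_of_finrank_lt (U := ⊤) (W := F ∙ x)
    ((finrank_span_singleton_le x).trans_lt (by rw [finrank_top]; omega))
  obtain ⟨φ, h3, h4⟩ := exists_dual_pair hy
  obtain ⟨g, hg, h5⟩ := exists_tv h4
  have h6 : finrank F (LinearMap.range (φ.smulRight x)) ≤ 1 :=
    (Submodule.finrank_mono (by rintro _ ⟨z, rfl⟩; exact Submodule.smul_mem _ _ (Submodule.mem_span_singleton_self x))).trans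
      (finrank_span_singleton_le x)
  obtain ⟨u, -, -, h7⟩ := range_eq_of_mem hn (H hg) (B := φ.smulRight x) h5
    (fun h => hx (by simpa [h3] using congrArg (· y) h)) (by omega)
  omega

theorem congr_mem_left {a : U ≃ₗ[F] U} (ha : a ∈ slV F U) :
    TensorProduct.congr a (1 : W ≃ₗ[F] W) ∈ slV F (U ⊗[F] W) := by
  let l : (U ≃ₗ[F] U) →* (U ⊗[F] W ≃ₗ[F] U ⊗[F] W) := MonoidHom.mk' (fun a => TensorProduct.congr a 1)
    fun a b => by rw [← congr_mul, mul_one]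
  refine slV_le (X := (slV F _).comap l) (fun v ψ h => ?_) ha
  obtain ⟨g, -, hg⟩ := exists_tv h
  refine ⟨g, mem_slV_of_sq (B := mk F U W v ∘ₗ ctl W ψ) (fun x => by simp [h]) fun x => ?_, hg⟩
  exact LinearMap.congr_fun (TensorProduct.ext' (g := (l g).toLinearMap)
    (h := 1 + mk F U W v ∘ₗ ctl W ψ) fun v w => by simp [l, hg, add_tmul, smul_tmul]) x

theorem congr_mem_right {b : W ≃ₗ[F] W} (hb : b ∈ slV F W) :
    TensorProduct.congr (1 : U ≃ₗ[F] U) b ∈ slV F (U ⊗[F] W) := by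
  let l : (W ≃ₗ[F] W) →* (U ⊗[F] W ≃ₗ[F] U ⊗[F] W) := MonoidHom.mk' (fun b => TensorProduct.congr 1 b)
    fun a b => by rw [← congr_mul, mul_one]
  refine slV_le (X := (slV F _).comap l) (fun v ψ h => ?_) hb
  obtain ⟨g, -, hg⟩ := exists_tv h
  refine ⟨g, mem_slV_of_sq (B := cu U v ∘ₗ ctr U ψ) (fun x => by simp [h]) fun x => ?_, hg⟩
  exact LinearMap.congr_fun (TensorProduct.ext' (g := (l g).toLinearMap)
    (h := 1 + cu U v ∘ₗ ctr U ψ) fun v w => by simp [l, hg, tmul_add, smul_tmul]) x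

section
variable (hX : slV F (U ⊗[F] W) ⊓ tens F U W ≤ X)
include hX

theorem exists_left {v : U} {ψ : U →ₗ[F] F} (h : ψ v = 0) :
    ∃ g ∈ X, (∀ x, g x = x + v ⊗ₜ ctl W ψ x) ∧ ∀ x, g.symm x = x - v ⊗ₜ ctl W ψ x := by
  obtain ⟨a, -, ha⟩ := exists_tv h
  have h1 : ∀ x, (mk F U W v ∘ₗ ctl W ψ) ((mk F U W v ∘ₗ ctl W ψ) x) = 0 := fun x => by simp [h]
  exact ⟨qun _ h1, hX ⟨qun_mem _ h1, mem_tens a 1 fun v w => by simp [ha, add_tmul, smul_tmul]⟩,
    fun _ => rfl, fun _ => rfl⟩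

theorem exists_right {u : W} {φ : W →ₗ[F] F} (h : φ u = 0) :
    ∃ g ∈ X ⊓ tens F U W, (∀ x, g x = x + ctr U φ x ⊗ₜ u) ∧ ∀ x, g.symm x = x - ctr U φ x ⊗ₜ u := by
  obtain ⟨a, -, ha⟩ := exists_tv h
  have h1 : ∀ x, (cu U u ∘ₗ ctr U φ) ((cu U u ∘ₗ ctr U φ) x) = 0 := fun x => by simp [h]
  have h2 : qun _ h1 ∈ tens F U W := mem_tens 1 a fun v w => by simp [ha, tmul_add, smul_tmul]
  exact ⟨qun _ h1, ⟨hX ⟨qun_mem _ h1, h2⟩, h2⟩, fun _ => rfl, fun _ => rfl⟩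

variable (X) in
omit hX in
/-- `X` contains the transvection group of a pure vector and a pure functional. -/
def Pure (v : U) (ψ : U →ₗ[F] F) (u : W) (φ : W →ₗ[F] F) : Prop :=
  ∀ c : F, HasTv X (v ⊗ₜ u) (c • ψ ∘ₗ ctr U φ)

theorem Pure.left {v : U} {ψ ψ' : U →ₗ[F] F} {u : W} {φ : W →ₗ[F] F} (h : Pure X v ψ u φ)
    (h0 : ψ ≠ 0) (h1 : ψ v = 0) (h2 : ψ' v = 0) : Pure X v ψ' u φ := fun c => by
  by_cases h3 : ψ' ∈ F ∙ ψ
  · obtain ⟨d, rfl⟩ := Submodule.mem_span_singleton.1 h3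
    simpa [LinearMap.smul_comp, smul_smul] using h (c * d)
  have h4 : ψ ∉ F ∙ ψ' := fun H => h3 (by
    obtain ⟨d, rfl⟩ := Submodule.mem_span_singleton.1 H
    exact Submodule.mem_span_singleton.2 ⟨d⁻¹, inv_smul_smul₀ (left_ne_zero_of_smul h0) _⟩)
  obtain ⟨w, h5, h6⟩ := exists_vec_pair h4
  obtain ⟨g, hg, h7, h8⟩ := exists_left (W := W) hX h6
  have := (h c).add (((h c).conj hg).neg (by simp [lin_inv_apply, h1]) |>.mono le_rfl |> fun H => by
    simpa [h7, h2] using H) (by simp [h1])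
  convert this using 1
  refine TensorProduct.ext' fun x y => ?_
  simp [h8, h5]; ring

theorem Pure.right {v : U} {ψ : U →ₗ[F] F} {u : W} {φ φ' : W →ₗ[F] F} (h : Pure X v ψ u φ)
    (h0 : φ ≠ 0) (h1 : φ u = 0) (h2 : φ' u = 0) : Pure X v ψ u φ' := fun c => by
  by_cases h3 : φ' ∈ F ∙ φ
  · obtain ⟨d, rfl⟩ := Submodule.mem_span_singleton.1 h3
    simpa [LinearMap.comp_smul, smul_smul] using h (c * d)
  have h4 : φ ∉ F ∙ φ' := fun H => h3 (by
    obtain ⟨d, rfl⟩ := Submodule.mem_span_singleton.1 H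
    exact Submodule.mem_span_singleton.2 ⟨d⁻¹, inv_smul_smul₀ (left_ne_zero_of_smul h0) _⟩)
  obtain ⟨w, h5, h6⟩ := exists_vec_pair h4
  obtain ⟨g, hg, h7, h8⟩ := exists_right (U := U) hX h6
  have := (h c).add (((h c).conj hg.1).neg (by simp [lin_inv_apply, h1]) |>.mono le_rfl |> fun H => by
    simpa [h7, h2] using H) (by simp [h1])
  convert this using 1
  refine TensorProduct.ext' fun x y => ?_
  simp [h8, h5]; ring

theorem Pure.all (hU : 2 ≤ finrank F U) (hW : 2 ≤ finrank F W) {v v' : U} {ψ ψ' : U →ₗ[F] F} {u u' : W}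
    {φ φ' : W →ₗ[F] F} (h : Pure X v ψ u φ) (hv : v ≠ 0) (hψ : ψ ≠ 0) (h1 : ψ v = 0) (hu : u ≠ 0)
    (hφ : φ ≠ 0) (h2 : φ u = 0) (hv' : v' ≠ 0) (h1' : ψ' v' = 0) (hu' : u' ≠ 0) (h2' : φ' u' = 0) :
    Pure X v' ψ' u' φ' := by
  obtain ⟨a, ha, h3⟩ := exists_sl_map hU hv hv'
  obtain ⟨b, hb, h4⟩ := exists_sl_map hW hu hu'
  have hg : TensorProduct.congr a b ∈ X := hX ⟨by
    simpa [← congr_mul] using mul_mem (congr_mem_left (W := W) ha) (congr_mem_right (U := U) hb), a, b, rfl⟩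
  intro c
  convert (((h.left hX hψ h1 (ψ' := ψ' ∘ₗ a.toLinearMap) (by simpa [h3])).right hX hφ h2
    (φ' := φ' ∘ₗ b.toLinearMap) (by simpa [h4])) c).conj hg using 1
  · simp [h3, h4]
  refine TensorProduct.ext' fun x y => ?_
  simp [show (TensorProduct.congr a b)⁻¹ = TensorProduct.congr a⁻¹ b⁻¹ from congr_symm a b]

theorem Pure.slV_le (hU : 2 ≤ finrank F U) (hW : 3 ≤ finrank F W) {v : U} {ψ : U →ₗ[F] F} {u : W}
    {φ : W →ₗ[F] F} (h : Pure X v ψ u φ) (hv : v ≠ 0) (hψ : ψ ≠ 0) (h1 : ψ v = 0) (hu : u ≠ 0)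
    (hφ : φ ≠ 0) (h2 : φ u = 0) : slV F (U ⊗[F] W) ≤ X := by
  have A := fun v' ψ' u' φ' => h.all hX hU (by omega) (v' := v') (ψ' := ψ') (u' := u') (φ' := φ')
    hv hψ h1 hu hφ h2
  have B : ∀ v ≠ 0, ∀ ψ, ∀ u ≠ 0, ∀ φ, φ u = 0 → Pure X v ψ u φ := fun v hv ψ u hu φ h2 c => by
    by_cases h1 : ψ v = 0
    · exact A v ψ u φ hv h1 hu h2 c
    obtain ⟨v', -, h3, h4⟩ := exists_ne_zero_kers (⊤ : Submodule F U) [ψ] (by simp; omega)
    obtain ⟨u', -, h5, h6⟩ := exists_not_mem_kers ⊤ (F ∙ u) [φ]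
      (by have := finrank_span_singleton_le (F := F) u; simp; omega)
    have h4 : ψ v' = 0 := h4 _ (by simp)
    obtain ⟨ψ', h7, h8⟩ := exists_dual_pair (F := F) (u := v) (v := v') fun H => by
      obtain ⟨d, rfl⟩ := Submodule.mem_span_singleton.1 H
      simp [h1, left_ne_zero_of_smul h3] at h4
    obtain ⟨φ', h9, h10⟩ := exists_dual_pair h5
    simpa [h7, h9] using (A v ψ' u φ' hv h8 hu h10 1).comm
      (A v' ψ u' φ h3 h4 (by rintro rfl; simp at h5) (h6 _ (by simp)) c) (by simp [h8]) (by simp [h4])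
      (by simp [h2])
  have C : ∀ v ≠ 0, ∀ ψ, ∀ u ≠ 0, ∀ φ, ψ v = 0 → Pure X v ψ u φ := fun v hv ψ u hu φ h1 c => by
    by_cases h2 : φ u = 0
    · exact B v hv ψ u hu φ h2 c
    obtain ⟨u', -, h3, h4⟩ := exists_ne_zero_kers (⊤ : Submodule F W) [φ] (by simp; omega)
    have h4 : φ u' = 0 := h4 _ (by simp)
    obtain ⟨φ', h7, h8⟩ := exists_dual_pair (F := F) (u := u) (v := u') fun H => by
      obtain ⟨d, rfl⟩ := Submodule.mem_span_singleton.1 H
      simp [h2, left_ne_zero_of_smul h3] at h4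
    obtain ⟨ψ', h9⟩ := exists_dual_one (F := F) hv
    simpa [h7, h9] using (B v hv ψ' u hu φ' h8 1).comm (B v hv ψ u' h3 φ h4 c) (by simp [h8])
      (by simp [h4]) (by simp [h1])
  refine slV_le_of_basis ((finBasis F U).tensorProduct (finBasis F W)) fun ⟨i, j⟩ ⟨k, l⟩ h c => ?_
  have h3 : ((finBasis F U).tensorProduct (finBasis F W)).coord (k, l) =
      (finBasis F U).coord k ∘ₗ ctr U ((finBasis F W).coord l) :=
    TensorProduct.ext' fun x y => by simp [mul_comm]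
  rw [h3, Basis.tensorProduct_apply]
  by_cases hi : i = k
  · subst hi
    exact B _ (Basis.ne_zero _ _) _ _ (Basis.ne_zero _ _) _
      (by simpa [Finsupp.single_apply] using h) c
  · exact C _ (Basis.ne_zero _ _) _ _ (Basis.ne_zero _ _) _ (by simp [hi]) c

theorem slV_le_of_hasU (hq : (∃ c : F, c ≠ 0 ∧ c ≠ 1) ∨ 3 ≤ finrank F U) (hU : 2 ≤ finrank F U)
    (hW : 3 ≤ finrank F W) {u : W} (hu : u ≠ 0) {β : U ⊗[F] W →ₗ[F] U} (h : HasU X (cu U u ∘ₗ β))
    (h0 : ∀ v, β (v ⊗ₜ u) = 0) (h1 : ∀ φ, β ≠ ctr U φ) : slV F (U ⊗[F] W) ≤ X := by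
  obtain ⟨w, hw⟩ : ∃ w, ∀ c : F, β ∘ₗ cu U w ≠ c • 1 := by
    by_contra H
    push Not at H
    obtain ⟨v, -, hv⟩ := exists_ne_zero_of_finrank_pos (U := (⊤ : Submodule F U))
      (by rw [finrank_top]; omega)
    obtain ⟨ψ, hψ⟩ := exists_dual_one (F := F) hv
    refine h1 (ψ ∘ₗ β ∘ₗ mk F U W v) (TensorProduct.ext' fun x w => ?_)
    obtain ⟨c, hc⟩ := H w
    have : ∀ x, β (x ⊗ₜ w) = c • x := fun x => congrArg (· x) hc
    simp [this, hψ]
  obtain ⟨y, -, hy⟩ := exists_not_mem_of_finrank_lt (U := ⊤) (W := Submodule.span F {u, w})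
    ((finrank_span_pair_le _ _).trans_lt (by rw [finrank_top]; omega))
  obtain ⟨φ, h2, h3⟩ := exists_functional hy 1
  have h4 := h3 u (Submodule.subset_span (by simp))
  have h5 := h3 w (Submodule.subset_span (by simp))
  let S : Submodule F (U →ₗ[F] U) :=
    { carrier := {N | ∀ c : F, HasU X (cu U u ∘ₗ (c • N) ∘ₗ ctr U φ)}
      zero_mem' := fun c => by simpa using hasU_zero
      add_mem' := fun {a b} ha hb c => ((ha c).add (hb c) fun x => by simp [h4]).congr fun x => by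
        simp [add_tmul, smul_tmul']
      smul_mem' := fun d N hN c => by simpa [smul_smul] using hN (c * d) }
  obtain ⟨v, hv, ψ, hψ, h6, h7⟩ := exists_tv_mem hq (S := S) (N := β ∘ₗ cu U w) (fun v ψ h6 N hN c => by
    obtain ⟨g, hg, h7, h8⟩ := exists_left (W := W) hX h6
    refine ((hN c).conj hg).congr (LinearMap.congr_fun (TensorProduct.ext' fun x y => ?_))
    simp [h7, h8, add_tmul, sub_tmul, smul_tmul, tmul_smul, smul_smul, tmul_sub]
    module) (fun c => by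
    obtain ⟨g, hg, h7, h8⟩ := exists_right (U := U) hX (u := w) (φ := c • φ) (by simp [h5])
    refine ((h.conj (inv_mem hg.1)).sub h (fun x => by simp [h7, h8, h0, h4]) fun x => by
      simp [h0]).congr fun x => ?_
    simp [h7, h8, h4, add_tmul, ← smul_tmul']) hw
  refine Pure.slV_le hX hU hW (fun c => ?_) hv hψ h6 hu (by rintro rfl; simp at h2) h4
  exact hasTv_iff.2 ((h7 c).congr fun x => by simp [smul_tmul', smul_smul])

theorem mem_or_le (hq : (∃ c : F, c ≠ 0 ∧ c ≠ 1) ∨ 3 ≤ finrank F U) (hU : 2 ≤ finrank F U)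
    (hW : 3 ≤ finrank F W) (hS : X ≤ slV F _) {u : W} (hu : u ≠ 0) {g} (hg : g ∈ X)
    (h : g ∈ stabL (LinearMap.range (cu U u))) : g ∈ tens F U W ∨ slV F (U ⊗[F] W) ≤ X := by
  refine or_iff_not_imp_right.2 fun hn => ?_
  have M : ∀ B : U ⊗[F] W →ₗ[F] U ⊗[F] W, HasU X B → (∀ x, B x ∈ LinearMap.range (cu U u)) →
      (∀ v, B (v ⊗ₜ u) = 0) → ∃ φ : W →ₗ[F] F, φ u = 0 ∧ ∀ x, B x = ctr U φ x ⊗ₜ u := fun B h1 h2 h3 => by
    obtain ⟨χ, hχ⟩ := exists_dual_one (F := F) hu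
    have h4 : ∀ x, B x = ctr U χ (B x) ⊗ₜ u := fun x => by
      obtain ⟨v, hv⟩ := h2 x
      simp [← hv, hχ]
    by_contra H
    refine hn (slV_le_of_hasU hX hq hU hW hu (β := ctr U χ ∘ₗ B) (h1.congr fun x => (h4 x).symm)
      (by simp [h3]) fun φ hφ => H ⟨φ, ?_, fun x => by rw [← hφ]; exact h4 x⟩)
    obtain ⟨v, -, hv⟩ := exists_ne_zero_of_finrank_pos (U := (⊤ : Submodule F U))
      (by rw [finrank_top]; omega)
    simpa [h3, hv] using (congrArg (· (v ⊗ₜ u)) hφ).symm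
  obtain ⟨χ, hχ⟩ := exists_dual_one (F := F) hu
  have h1 : ∀ v, g (v ⊗ₜ u) = ctr U χ (g (v ⊗ₜ u)) ⊗ₜ u := fun v => by
    obtain ⟨v', hv⟩ := stabL_mem h ⟨v, rfl⟩
    simp only [cu_apply] at hv
    simp [← hv, hχ]
  let a : U ≃ₗ[F] U := LinearEquiv.ofInjectiveEndo (ctr U χ ∘ₗ g ∘ₗ cu U u)
    ((injective_iff_map_eq_zero _).2 fun v hv => cu_injective hu (g.injective (by
      simp only [LinearMap.comp_apply, cu_apply, LinearEquiv.coe_coe] at hv
      rw [cu_apply, h1 v, hv]; simp)))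
  have ha : ∀ v, g (v ⊗ₜ u) = a v ⊗ₜ u := h1
  have h2 : ∀ φ : W →ₗ[F] F, φ u = 0 → ∃ φ' : W →ₗ[F] F, ∀ x, ctr U φ (g x) = a (ctr U φ' x) := fun φ hφ => by
    obtain ⟨t, ht, h3, -⟩ := exists_right (U := U) hX hφ
    obtain ⟨φ', -, h4⟩ := M _ ((show HasU X (cu U u ∘ₗ ctr U φ) from ⟨t, ht.1, h3⟩).conj (inv_mem hg))
      (fun x => stabL_mem (inv_mem h) ⟨_, rfl⟩) fun v => by simp [ha, hφ]
    refine ⟨φ', fun x => cu_injective (F := F) hu ?_⟩
    simpa [ha, lin_apply_inv] using congrArg g (h4 x)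
  obtain ⟨v, -, hv⟩ := exists_ne_zero_of_finrank_pos (U := (⊤ : Submodule F U))
    (by rw [finrank_top]; omega)
  obtain ⟨ψ, hψ⟩ := exists_dual_one (F := F) (a.map_ne_zero_iff.2 hv)
  let b : W →ₗ[F] W := ctl W ψ ∘ₗ g ∘ₗ mk F U W v
  have hb : ∀ x w, g (x ⊗ₜ w) - a x ⊗ₜ b w ∈ LinearMap.range (cu U u) := fun x w =>
    mem_range_cu hu fun φ hφ => by
      obtain ⟨φ', h3⟩ := h2 φ hφ
      simp [b, ctl_ctr, h3, hψ]
  have hbu : b u = u := by simp [b, ha, hψ]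
  let b' : W ≃ₗ[F] W := LinearEquiv.ofInjectiveEndo b ((injective_iff_map_eq_zero _).2 fun w hw => by
    obtain ⟨y, hy⟩ := (h _).2 (by simpa [hw] using hb v w)
    obtain ⟨ψ', hψ'⟩ := exists_dual_one (F := F) hv
    have h3 : w = ψ' y • u := by simpa [hψ'] using (congrArg (ctl W ψ') hy).symm
    rw [h3, map_smul, hbu] at hw
    exact h3.trans hw)
  let k := TensorProduct.congr a b'
  have h3 : ∀ x, (g * k⁻¹) x = x + ((g.toLinearMap - k.toLinearMap) ∘ₗ k.symm.toLinearMap) x := fun x => by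
    simp [lin_apply_inv]
  have h4 : ∀ x, ((g.toLinearMap - k.toLinearMap) ∘ₗ k.symm.toLinearMap) x ∈ LinearMap.range (cu U u) := fun x => by
    rw [LinearMap.comp_apply]
    generalize k.symm.toLinearMap x = y
    induction y with
    | zero => simp
    | tmul x w => exact hb x w
    | add a b ha hb => rw [map_add]; exact add_mem ha hb
  have h5 : ∀ x, ((g.toLinearMap - k.toLinearMap) ∘ₗ k.symm.toLinearMap) (x ⊗ₜ u) = 0 := fun x => by
    have : k (a⁻¹ x ⊗ₜ u) = x ⊗ₜ u := by simp [k, b', hbu, lin_apply_inv]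
    simp [← this, lin_inv_apply, ha, lin_apply_inv]
  have h6 : k ∈ X := hX ⟨by
    simpa using mul_mem (inv_mem (mem_slV_of_sq (fun x => by
      obtain ⟨y, hy⟩ := h4 x
      rw [← hy]; exact h5 y) h3)) (hS hg), a, b', rfl⟩
  obtain ⟨φ, h7, h8⟩ := M _ ⟨_, mul_mem hg (inv_mem h6), h3⟩ h4 h5
  obtain ⟨t, ht, h9, -⟩ := exists_right (U := U) hX h7
  rw [show g = t * k from eq_mul_of_mul_inv_eq (LinearEquiv.ext fun x => by rw [h3, h8, h9])]
  exact mul_mem ht.2 ⟨a, b', rfl⟩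

theorem slV_le (hq : (∃ c : F, c ≠ 0 ∧ c ≠ 1) ∨ 3 ≤ finrank F U) (hU : 2 ≤ finrank F U)
    (hW : finrank F U < finrank F W) (hS : X ≤ slV F _) (h : ¬ X ≤ tens F U W) :
    slV F (U ⊗[F] W) ≤ X := by
  by_contra hn
  have A : ∀ u ≠ 0, ∀ g ∈ X, g ∈ stabL (LinearMap.range (cu U u)) → g ∈ tens F U W :=
    fun u hu g hg h => (mem_or_le hX hq hU (by omega) hS hu hg h).resolve_right hn
  have B : ∀ g ∈ X, g ∉ tens F U W → ∀ u ≠ 0, ∀ φ : W →ₗ[F] F, φ ≠ 0 → φ u = 0 →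
      ∃ k ∈ X, k ∉ tens F U W ∧ ∀ x, k x = x + g⁻¹ (ctr U φ (g x) ⊗ₜ u) := fun g hg h u hu φ h0 h1 => by
    obtain ⟨t, ht, h2, -⟩ := exists_right (U := U) hX h1
    have h3 : ∀ x, (g⁻¹ * t * g) x = x + g⁻¹ (ctr U φ (g x) ⊗ₜ u) := fun x => by simp [h2, lin_inv_apply]
    refine ⟨_, mul_mem (mul_mem (inv_mem hg) ht.1) hg, fun H => h ?_, h3⟩
    obtain ⟨w, hw⟩ := LinearMap.surjective h0 1
    have h4 : LinearMap.range (g.symm.toLinearMap ∘ₗ cu U u ∘ₗ ctr U φ ∘ₗ g.toLinearMap) =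
        (LinearMap.range (cu U u)).map g.symm.toLinearMap := by
      rw [LinearMap.range_comp, LinearMap.range_comp_of_range_eq_top]
      exact eq_top_iff.2 fun v _ => ⟨g⁻¹ (v ⊗ₜ w), by simp [lin_apply_inv, hw]⟩
    obtain ⟨v, -, hv⟩ := exists_ne_zero_of_finrank_pos (U := (⊤ : Submodule F U))
      (by rw [finrank_top]; omega)
    obtain ⟨u', h5, h6, -⟩ := range_eq_of_mem hW H (B := g.symm.toLinearMap ∘ₗ cu U u ∘ₗ ctr U φ ∘ₗ g.toLinearMap) h3
      (fun H => hv (cu_injective hu (by simpa [lin_apply_inv, hw] using congrArg (· (g⁻¹ (v ⊗ₜ w))) H)))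
      (by rw [h4, LinearEquiv.finrank_map_eq]; exact LinearMap.finrank_range_le _)
    obtain ⟨b, hb, rfl⟩ := exists_sl_map (F := F) (by omega) hu h5
    have h7 : TensorProduct.congr 1 b ∈ tens F U W := ⟨1, b, rfl⟩
    refine (mul_mem_cancel_right h7).1 (A u hu _ (mul_mem hg (hX ⟨congr_mem_right hb, h7⟩))
      (mem_stabL_of_mapsTo ?_))
    rintro _ ⟨v, rfl⟩
    obtain ⟨y, hy, h8⟩ := (h6.trans h4).le ⟨v, rfl⟩
    exact ((congrArg g h8.symm).trans (lin_apply_inv g y)).symm ▸ hy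
  have C : ∀ k, k + 1 ≤ finrank F U → ∃ g ∈ X, g ∉ tens F U W ∧ ∃ u ≠ 0, ∃ E : Submodule F U,
      finrank F E = k + 1 ∧ ∀ v ∈ E, g (v ⊗ₜ u) ∈ E.map (cu U u) := fun k hk => by
    induction k with
    | zero =>
      obtain ⟨g, hg, h⟩ := SetLike.not_le_iff_exists.1 h
      obtain ⟨v, -, hv⟩ := exists_ne_zero_of_finrank_pos (U := (⊤ : Submodule F U))
        (by rw [finrank_top]; omega)
      obtain ⟨u, -, hu⟩ := exists_ne_zero_of_finrank_pos (U := (⊤ : Submodule F W))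
        (by rw [finrank_top]; omega)
      obtain ⟨φ, h1, h2⟩ := (Submodule.ne_bot_iff _).1
        (((ctr U).flip (g (v ⊗ₜ u))).ker_ne_bot_of_finrank_lt (by simpa using hW))
      obtain ⟨u', -, h3, h4⟩ := exists_ne_zero_kers (⊤ : Submodule F W) [φ] (by simp; omega)
      obtain ⟨k, hk, h5, h6⟩ := B g hg h u' h3 φ h2 (h4 _ (by simp))
      refine ⟨k, hk, h5, u, hu, F ∙ v, finrank_span_singleton hv, fun x hx => ⟨x, hx, ?_⟩⟩
      obtain ⟨c, rfl⟩ := Submodule.mem_span_singleton.1 hx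
      have : ctr U φ (g (v ⊗ₜ u)) = 0 := h1
      simp [h6, ← smul_tmul', this]
    | succ k ih =>
      obtain ⟨g, hg, h, u, hu, E, hE, h1⟩ := ih (by omega)
      obtain ⟨v, -, hv⟩ := exists_not_mem_of_finrank_lt (U := ⊤) (W := E) (by rw [finrank_top]; omega)
      have := E.finrank_quotient_add_finrank
      obtain ⟨φ, h2, h3⟩ := (Submodule.ne_bot_iff _).1
        (((E.mkQ ∘ₗ (ctr U).flip (g (v ⊗ₜ u))).prod (Dual.eval F W u)).ker_ne_bot_of_finrank_lt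
          (by simp; omega))
      obtain ⟨h4, h5⟩ : ctr U φ (g (v ⊗ₜ u)) ∈ E ∧ φ u = 0 := by simpa using h2
      obtain ⟨k, hk, h6, h7⟩ := B g hg h u hu φ h3 h5
      have h8 : g ∈ stabL (E.map (cu U u)) := mem_stabL_of_mapsTo (by rintro _ ⟨x, hx, rfl⟩; exact h1 x hx)
      refine ⟨k, hk, h6, u, hu, E ⊔ F ∙ v, by
        rw [Submodule.finrank_sup_span_singleton hv, hE], fun x hx => ?_⟩
      rw [h7]
      refine add_mem ⟨x, hx, rfl⟩ (Submodule.map_mono le_sup_left (stabL_mem (inv_mem h8) ⟨_, ?_, rfl⟩))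
      obtain ⟨y, hy, z, hz, rfl⟩ := Submodule.mem_sup.1 hx
      obtain ⟨c, rfl⟩ := Submodule.mem_span_singleton.1 hz
      obtain ⟨y', -, h9⟩ := h1 y hy
      simpa [add_tmul, ← smul_tmul', ← h9, h5] using E.smul_mem c h4
  obtain ⟨g, hg, h, u, hu, E, hE, h1⟩ := C (finrank F U - 1) (by omega)
  obtain rfl := Submodule.eq_top_of_finrank_eq (S := E) (by omega)
  exact h (A u hu g hg (mem_stabL_of_mapsTo (by
    rintro _ ⟨v, rfl⟩; simpa using h1 v trivial)))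

end

open Matrix Asch
open scoped Kronecker

variable {ι κ μ : Type} [Fintype ι] [DecidableEq ι] [Fintype κ] [DecidableEq κ] [Fintype μ]
  [DecidableEq μ]

/-- The tensor structure of `e`, `P`. -/
noncomputable def teq (e : ι ≃ κ × μ) (P : GL ι F) : ((κ → F) ⊗[F] (μ → F)) ≃ₗ[F] (ι → F) :=
  ((Pi.basisFun F κ).tensorProduct (Pi.basisFun F μ)).equivFun.trans (vec e P)

omit [DecidableEq κ] [DecidableEq μ] in
theorem teq_tmul (e : ι ≃ κ × μ) (P : GL ι F) (x : κ → F) (y : μ → F) :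
    teq e P (x ⊗ₜ y) = pv e P x y :=
  congrArg (vec e P) (funext fun ⟨i, j⟩ => by simp [mul_comm])

/-- Linear automorphisms as matrices through an isomorphism. -/
noncomputable def toM {V : Type*} [AddCommGroup V] [Module F V] (Φ : V ≃ₗ[F] (ι → F)) :
    (V ≃ₗ[F] V) →* GL ι F := (ofLin F ι).comp (linAutCongr Φ).toMonoidHom

theorem toM_mulVec {V : Type*} [AddCommGroup V] [Module F V] (Φ : V ≃ₗ[F] (ι → F)) (g : V ≃ₗ[F] V)
    (x : V) : (toM Φ g : Matrix ι ι F) *ᵥ Φ x = Φ (g x) := by simp [toM]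

theorem toM_injective {V : Type*} [AddCommGroup V] [Module F V] (Φ : V ≃ₗ[F] (ι → F)) :
    Function.Injective (toM Φ) := ofLin_injective.comp (linAutCongr Φ).injective

theorem specialLinear_eq' {V : Type*} [AddCommGroup V] [Module F V] (Φ : V ≃ₗ[F] (ι → F)) :
    specialLinear ι F = (slV F V).map (toM Φ) := by
  rw [specialLinear_eq, toM, ← Subgroup.map_map]
  congr 1
  ext g
  obtain ⟨g, rfl⟩ := (linAutCongr Φ).surjective g
  rw [show linAutCongr Φ g = (linAutCongr Φ).toMonoidHom g from rfl,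
    Subgroup.mem_map_iff_mem (linAutCongr Φ).injective, mem_slV, mem_slV,
    ← LinearMap.det_conj (g : V →ₗ[F] V) Φ]
  rfl

theorem comap_tensor {n₁ n₂ : ℕ} (e : ι ≃ Fin n₁ × Fin n₂) (P : GL ι F) :
    (tensorProductSubgroup n₁ n₂ e P).comap (toM (teq e P)) = tens F _ _ := by
  ext g
  rw [Subgroup.mem_comap, mem_tensorProductSubgroup_iff]
  constructor
  · rintro ⟨a, b, h⟩
    refine mem_tens (glEquiv _ F a) (glEquiv _ F b) fun v w => (teq e P).injective ?_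
    rw [← toM_mulVec, h, teq_tmul, teq_tmul, tr_pv]; rfl
  · intro h
    obtain ⟨a, b, h⟩ := exists_of_mem h
    refine ⟨ofLin F _ a, ofLin F _ b, mat_ext_pv (e := e) (P := P) fun i y => ?_⟩
    rw [tr_pv, ← teq_tmul, toM_mulVec, h, teq_tmul, ofLin_mulVec, ofLin_mulVec]

theorem exists_ne_of_card [Fintype F] (h : Fintype.card F ≠ 2) : ∃ c : F, c ≠ 0 ∧ c ≠ 1 := by
  classical
  have := Fintype.one_lt_card (α := F)
  obtain ⟨c, -, hc⟩ := Finset.exists_mem_notMem_of_card_lt_card (s := ({0, 1} : Finset F))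
    (t := Finset.univ) (by rw [Finset.card_pair zero_ne_one, Finset.card_univ]; omega)
  exact ⟨c, by simpa using hc⟩

theorem sl_max_tensor [Fintype F] {n₁ n₂ : ℕ} (h1 : 2 ≤ n₁) (h12 : n₁ < n₂)
    (hex : ¬ (n₁ = 2 ∧ Fintype.card F = 2)) (e : ι ≃ Fin n₁ × Fin n₂) (P : GL ι F) :
    IsMaximalIn (specialLinear ι F) (tensorProductSubgroup n₁ n₂ e P ⊓ specialLinear ι F) :=
  isMaximalIn_map' (specialLinear_eq' (teq e P)) (comap_tensor e P) (toM_injective _)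
    (not_le (by simpa using h1) (by simpa using h12)) fun _ h2 h3 => slV_le h3 (by
      by_cases h : Fintype.card F = 2
      · right; simp; omega
      · exact Or.inl (exists_ne_of_card h)) (by simpa using h1) (by simpa using h12) h2

end Cfsg.Lib.Forms.Ten
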