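import Cfsg.Agent.Lib.Max.SL

/-! Quadratic unipotent elements in overgroups. -/

set_option autoImplicit false

namespace Cfsg.Lib.Forms

open Module Cfsg.Geo

variable {F : Type*} [Field F] {V : Type*} [AddCommGroup V] [Module F V]
  {X : Subgroup (V ≃ₗ[F] V)}

theorem isMaximalIn_map' {A B : Type*} [Group A] [Group B] {φ : A →* B}
    {E : Subgroup A} {G H : Subgroup B} {S : Subgroup A} (hG : G = E.map φ) (hS : H.comap φ = S)
    (hφ : Function.Injective φ) (h1 : ¬ E ≤ S)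
    (h2 : ∀ X : Subgroup A, X ≤ E → E ⊓ S ≤ X → ¬ X ≤ S → E ≤ X) : IsMaximalIn G (H ⊓ G) := by
  subst hG hS
  refine isMaximalIn_inf (fun h => h1 fun g hg => h ⟨g, hg, rfl⟩) fun X h3 h4 h5 => ?_
  rw [Subgroup.map_le_iff_le_comap]
  refine h2 _ (fun g hg => ?_) (fun g hg => h3 ⟨hg.2, g, hg.1, rfl⟩) fun h => h5 fun g hg => ?_
  · obtain ⟨a, ha, h⟩ := h4 hg
    exact hφ h ▸ ha
  · obtain ⟨a, -, rfl⟩ := h4 hg
    exact h hg

/-- `X` contains `1 + B`. -/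
def HasU (X : Subgroup (V ≃ₗ[F] V)) (B : V →ₗ[F] V) : Prop := ∃ g ∈ X, ∀ x, g x = x + B x

theorem det_one_add_sq [FiniteDimensional F V] {B : V →ₗ[F] V} (h : ∀ x, B (B x) = 0) :
    LinearMap.det (1 + B) = 1 := by
  have h1 : IsNilpotent (-B) := ⟨2, by ext x; simp [pow_two, h]⟩
  have := (-B).eval_charpoly 1
  rw [IsNilpotent.charpoly_eq_X_pow_finrank h1] at this
  simpa using this.symm

theorem mem_slV_of_sq [FiniteDimensional F V] {g : V ≃ₗ[F] V} {B : V →ₗ[F] V}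
    (h : ∀ x, B (B x) = 0) (hg : ∀ x, g x = x + B x) : g ∈ slV F V := by
  rw [mem_slV, ← det_one_add_sq h]; congr 1; ext x; exact hg x

/-- `1 + B` for `B ^ 2 = 0`. -/
def qun (B : V →ₗ[F] V) (h : ∀ x, B (B x) = 0) : V ≃ₗ[F] V :=
  LinearEquiv.ofLinearMap (1 + B) (1 - B) (by ext x; simp [h]) (by ext x; simp [h])

@[simp] theorem qun_apply (B : V →ₗ[F] V) (h : ∀ x, B (B x) = 0) (x : V) :
    qun B h x = x + B x := rfl

@[simp] theorem qun_inv_apply (B : V →ₗ[F] V) (h : ∀ x, B (B x) = 0) (x : V) :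
    (qun B h)⁻¹ x = x - B x := rfl

theorem qun_mem [FiniteDimensional F V] (B : V →ₗ[F] V) (h : ∀ x, B (B x) = 0) :
    qun B h ∈ slV F V := mem_slV_of_sq h fun _ => rfl

theorem hasU_zero : HasU X 0 := ⟨1, one_mem _, by simp⟩

theorem HasU.congr {B B' : V →ₗ[F] V} (h : HasU X B) (H : ∀ x, B' x = B x) : HasU X B' :=
  (LinearMap.ext H : B' = B) ▸ h

theorem HasU.add {B B' : V →ₗ[F] V} (h : HasU X B) (h' : HasU X B') (h0 : ∀ x, B (B' x) = 0) :
    HasU X (B + B') := by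
  obtain ⟨g, hg, h⟩ := h
  obtain ⟨k, hk, h'⟩ := h'
  exact ⟨g * k, mul_mem hg hk, fun x => by simp [h, h', h0]; abel⟩

theorem HasU.neg {B : V →ₗ[F] V} (h : HasU X B) (h0 : ∀ x, B (B x) = 0) : HasU X (-B) := by
  obtain ⟨g, hg, h⟩ := h
  refine ⟨g⁻¹, inv_mem hg, fun x => g.injective ?_⟩
  rw [lin_apply_inv, h]; simp [h0]

theorem HasU.sub {B B' : V →ₗ[F] V} (h : HasU X B) (h' : HasU X B') (h0 : ∀ x, B (B' x) = 0)
    (h1 : ∀ x, B' (B' x) = 0) : HasU X (B - B') := by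
  rw [sub_eq_add_neg]; exact h.add (h'.neg h1) (by simpa using h0)

theorem HasU.conj {B : V →ₗ[F] V} (h : HasU X B) {k : V ≃ₗ[F] V} (hk : k ∈ X) :
    HasU X (k ∘ₗ B ∘ₗ (k⁻¹ : V ≃ₗ[F] V)) := by
  obtain ⟨g, hg, h⟩ := h
  exact ⟨k * g * k⁻¹, mul_mem (mul_mem hk hg) (inv_mem hk), fun x => by simp [h]⟩

theorem HasU.mem {B : V →ₗ[F] V} (h : HasU X B) {g : V ≃ₗ[F] V} (hg : ∀ x, g x = x + B x) :
    g ∈ X := by
  obtain ⟨k, hk, h⟩ := h
  rwa [show g = k from LinearEquiv.ext fun x => (hg x).trans (h x).symm]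

theorem hasTv_iff {u : V} {φ : V →ₗ[F] F} : HasTv X u φ ↔ HasU X (φ.smulRight u) := Iff.rfl

theorem exists_dual_one {v : V} (h : v ≠ 0) : ∃ φ : V →ₗ[F] F, φ v = 1 :=
  let ⟨φ, h, _⟩ := exists_functional (W := (⊥ : Submodule F V)) (a := v) (by simpa using h) 1; ⟨φ, h⟩

theorem exists_dual_pair {u v : V} (h : v ∉ F ∙ u) : ∃ φ : V →ₗ[F] F, φ v = 1 ∧ φ u = 0 :=
  let ⟨φ, h1, h2⟩ := exists_functional h 1; ⟨φ, h1, h2 u (Submodule.mem_span_singleton_self u)⟩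

theorem exists_vec_pair {φ ψ : V →ₗ[F] F} (h : ψ ∉ F ∙ φ) : ∃ v, ψ v = 1 ∧ φ v = 0 := by
  by_contra H
  push Not at H
  have := mem_span_of_iInf_ker_le_ker (L := fun _ : Unit => φ) (K := ψ) fun x hx => by
    rw [iInf_const] at hx
    by_contra h1
    exact H ((ψ x)⁻¹ • x) (by simp [inv_mul_cancel₀ h1]) (by simp [LinearMap.mem_ker.1 hx])
  exact h (by simpa using this)

theorem exists_not_scalar {N : V →ₗ[F] V} (h : ∀ c : F, N ≠ c • 1) :
    ∃ v, ∃ ψ : V →ₗ[F] F, ψ v = 0 ∧ ψ (N v) = 1 := by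
  by_contra H
  push Not at H
  have h1 : ∀ v, N v ∈ F ∙ v := fun v => by
    by_contra h1
    obtain ⟨ψ, h2, h3⟩ := exists_dual_pair h1
    exact H v ψ h3 h2
  obtain ⟨c, hc⟩ := LinearMap.exists_eq_smul_id_of_forall_notLinearIndependent (f := N) fun v hv => by
    obtain ⟨c, hc⟩ := Submodule.mem_span_singleton.1 (h1 v)
    simpa using (LinearIndependent.pair_iff.1 hv c (-1) (by simp [hc])).2
  exact h c hc

variable [FiniteDimensional F V]

theorem exists_sl_map (h2 : 2 ≤ finrank F V) {u v : V} (hu : u ≠ 0) (hv : v ≠ 0) :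
    ∃ g ∈ slV F V, g u = v := by
  have key : ∀ u v : V, u ≠ 0 → v ∉ F ∙ u → ∃ g ∈ slV F V, g u = v := fun u v hu h => by
    obtain ⟨g, hg, -, h1, -⟩ := exists_sl_fix (F := F) (W := ⊥) (s := u) (u := v - u) fun H => by
      rw [bot_sup_eq] at H
      obtain ⟨c, hc⟩ := Submodule.mem_span_singleton.1 H
      have h3 : c ≠ 0 := by rintro rfl; exact hu (by simpa using hc.symm)
      exact h (Submodule.mem_span_singleton.2 ⟨c⁻¹ * (1 + c), by
        rw [mul_smul, inv_smul_eq_iff₀ h3]; linear_combination (norm := module) -hc⟩)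
    exact ⟨g, hg, by simpa using h1⟩
  by_cases h : v ∈ F ∙ u
  · obtain ⟨w, -, hw⟩ := exists_not_mem_of_finrank_lt (U := ⊤) (W := F ∙ u)
      ((finrank_span_singleton_le u).trans_lt (by rw [finrank_top]; omega))
    obtain ⟨g, hg, h1⟩ := key u w hu hw
    obtain ⟨k, hk, h2⟩ := key v w hv fun H => hw ((Submodule.span_singleton_le_iff_mem _ _).2 h H)
    exact ⟨k⁻¹ * g, mul_mem (inv_mem hk) hg, by simp [h1, ← h2, lin_inv_apply]⟩
  · exact key u v hu h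

theorem slV_le_of_basis {ι : Type*} [Fintype ι] (b : Basis ι F V)
    (h : ∀ i j, i ≠ j → ∀ c : F, HasTv X (b i) (c • b.coord j)) : slV F V ≤ X := by
  classical
  refine slV_le_of_atL (eq_top_iff.2 (b.span_eq ▸ Submodule.span_le.2 ?_))
  rintro _ ⟨i, rfl⟩ φ hφ
  have : φ = ∑ j, φ (b j) • b.coord j := b.ext fun k => by simp
  refine (this ▸ sum_mem fun j _ => ?_ : φ ∈ psi X (b i)).2
  by_cases hj : i = j
  · subst hj; simp [hφ]
  · exact ⟨by simp [hj], h i j hj _⟩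

omit [FiniteDimensional F V] in
/-- A space of endomorphisms invariant under transvections contains a rank one nilpotent. -/
theorem exists_tv_mem (hq : (∃ c : F, c ≠ 0 ∧ c ≠ 1) ∨ 3 ≤ finrank F V) {S : Submodule F (V →ₗ[F] V)}
    (hS : ∀ (v : V) (ψ : V →ₗ[F] F), ψ v = 0 → ∀ N ∈ S,
      (1 + ψ.smulRight v) * N * (1 - ψ.smulRight v) ∈ S)
    {N : V →ₗ[F] V} (hN : N ∈ S) (h : ∀ c : F, N ≠ c • 1) :
    ∃ v ≠ 0, ∃ ψ : V →ₗ[F] F, ψ ≠ 0 ∧ ψ v = 0 ∧ ψ.smulRight v ∈ S := by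
  obtain ⟨v, ψ, h0, h1⟩ := exists_not_scalar h
  have hv : v ≠ 0 := by rintro rfl; simp at h1
  have hψ : ψ ≠ 0 := by rintro rfl; simp at h1
  rcases hq with ⟨c, hc, hc'⟩ | h3
  · refine ⟨v, hv, ψ, hψ, h0, ?_⟩
    have h2 := sub_mem (S.smul_mem c (sub_mem (hS v ψ h0 N hN) hN))
      (sub_mem (hS v (c • ψ) (by simp [h0]) N hN) hN)
    rw [← S.smul_mem_iff (mul_ne_zero hc (sub_ne_zero.2 hc'))]
    convert h2 using 1
    ext x; simp [h1]; module
  · have : FiniteDimensional F V := Module.finite_of_finrank_pos (by omega)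
    obtain ⟨w, -, hw⟩ := exists_not_mem_of_finrank_lt (U := ⊤) (W := Submodule.span F {v, N v})
      ((finrank_span_pair_le _ _).trans_lt (by rw [finrank_top]; omega))
    obtain ⟨χ, h4, h5⟩ := exists_functional hw 1
    have h6 := h5 v (Submodule.subset_span (by simp))
    have h7 := h5 (N v) (Submodule.subset_span (by simp))
    refine ⟨v, hv, χ, by rintro rfl; simp at h4, h6, ?_⟩
    have h2 := sub_mem (hS v ψ h0 N hN) hN
    convert neg_mem (sub_mem (hS v χ h6 _ h2) h2) using 1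
    ext x; simp [h0, h1, h6, h7]; module

end Cfsg.Lib.Forms
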