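import Cfsg.Agent.Lib.Max2.Fr
import Mathlib.GroupTheory.SpecificGroups.Alternating.Simple

/-! Overgroups of the monomial group in `SL`. -/

set_option autoImplicit false

namespace Cfsg.Lib.Forms

open Module Cfsg.Geo

variable {F : Type*} [Field F] {V : Type*} [AddCommGroup V] [Module F V] {ι : Type*}

/-- The permutation induced on the members of a family. -/
noncomputable def decPerm {D : ι → Submodule F V} (hD : Function.Injective D) :
    decL D →* Equiv.Perm ι :=
  MonoidHom.mk' (fun g => g.2.choose) fun g h => Equiv.ext fun i => hD (by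
    rw [Equiv.Perm.mul_apply, ← (g * h).2.choose_spec, ← g.2.choose_spec, ← h.2.choose_spec,
      ← Submodule.map_comp]; rfl)

theorem decPerm_spec {D : ι → Submodule F V} (hD : Function.Injective D) (g : decL D) (i : ι) :
    (D i).map (g.1 : V →ₗ[F] V) = D (decPerm hD g i) := g.2.choose_spec i

namespace Fr

variable (b : Basis ι F V) [Fintype ι] [DecidableEq ι]

/-- Projection forgetting the coordinate `i`. -/
noncomputable def pr (i : ι) : V →ₗ[F] ({j // j ≠ i} → F) := LinearMap.pi fun j => b.coord j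

/-- Section of `pr`. -/
noncomputable def sec (i : ι) : ({j // j ≠ i} → F) →ₗ[F] V :=
  (Pi.basisFun F _).constr F fun j => b j

omit [Fintype ι] [DecidableEq ι] in
@[simp] theorem pr_apply (i : ι) (v : V) (j : {j // j ≠ i}) : pr b i v j = b.repr v j := rfl

omit [Fintype ι] [DecidableEq ι] in
@[simp] theorem pr_self (i : ι) : pr b i (b i) = 0 := by
  classical
  ext j; simp [Finsupp.single_apply, j.2.symm]

theorem pr_b (i : ι) (j : {j // j ≠ i}) : pr b i (b j) = Pi.basisFun F _ j := by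
  ext k; simp [Finsupp.single_apply, Pi.single_apply, Subtype.ext_iff, eq_comm]

omit [DecidableEq ι] in
theorem sec_b (i : ι) (j : {j // j ≠ i}) : sec b i (Pi.basisFun F _ j) = b j := by
  rw [sec, Basis.constr_basis]

@[simp] theorem pr_sec (i : ι) (w : {j // j ≠ i} → F) : pr b i (sec b i w) = w := by
  have : pr b i ∘ₗ sec b i = LinearMap.id :=
    (Pi.basisFun F _).ext fun j => by rw [LinearMap.comp_apply, sec_b, pr_b]; rfl
  exact LinearMap.congr_fun this w

@[simp] theorem repr_sec (i : ι) (w : {j // j ≠ i} → F) : b.repr (sec b i w) i = 0 := by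
  have : b.coord i ∘ₗ sec b i = 0 :=
    (Pi.basisFun F _).ext fun j => by
      rw [LinearMap.comp_apply, sec_b]; simp [Finsupp.single_apply, j.2]
  exact LinearMap.congr_fun this w

omit [Fintype ι] [DecidableEq ι] in
theorem ext_pr (i : ι) {v w : V} (h : pr b i v = pr b i w) (h' : b.repr v i = b.repr w i) :
    v = w := b.ext_elem fun j => by
  by_cases hj : j = i
  · rwa [hj]
  · exact congrFun h ⟨j, hj⟩

theorem sec_pr (i : ι) (v : V) : sec b i (pr b i v) = v - b.repr v i • b i :=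
  ext_pr b i (by simp) (by simp)

/-- Extension of an automorphism of the quotient. -/
noncomputable def lift (i : ι) (h : ({j // j ≠ i} → F) ≃ₗ[F] ({j // j ≠ i} → F)) : V ≃ₗ[F] V :=
  LinearEquiv.ofLinearMap ((b.coord i).smulRight (b i) + sec b i ∘ₗ h ∘ₗ pr b i)
    ((b.coord i).smulRight (b i) + sec b i ∘ₗ h.symm ∘ₗ pr b i)
    (by ext x; simp [sec_pr]) (by ext x; simp [sec_pr])

theorem lift_apply (i : ι) (h : ({j // j ≠ i} → F) ≃ₗ[F] ({j // j ≠ i} → F)) (v : V) :
    lift b i h v = b.repr v i • b i + sec b i (h (pr b i v)) := rfl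

/-- The group induced on the quotient. -/
def quo (X : Subgroup (V ≃ₗ[F] V)) (i : ι) :
    Subgroup (({j // j ≠ i} → F) ≃ₗ[F] ({j // j ≠ i} → F)) where
  carrier := {h | ∃ g ∈ X, ∀ v, h (pr b i v) = pr b i (g v)}
  mul_mem' := by
    rintro _ _ ⟨g, hg, h⟩ ⟨g', hg', h'⟩
    exact ⟨g * g', mul_mem hg hg', fun v => by simp [h, h']⟩
  one_mem' := ⟨1, one_mem _, fun v => rfl⟩
  inv_mem' := by
    rintro a ⟨g, hg, h⟩
    refine ⟨g⁻¹, inv_mem hg, fun v => a.injective ?_⟩
    rw [lin_apply_inv, h, lin_apply_inv]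

variable {b} {X : Subgroup (V ≃ₗ[F] V)} [FiniteDimensional F V]
  (hS : X ≤ slV F V) (hX : slV F V ⊓ mono b ≤ X) (h5 : 5 ≤ Fintype.card ι)
  (hF : ∀ a b c d : F, ∃ x, x ≠ a ∧ x ≠ b ∧ x ≠ c ∧ x ≠ d) (hW : ¬ Win b X)

omit [FiniteDimensional F V] in
include hX in
theorem mono_le_quo (i : ι) : mono (Pi.basisFun F _) ≤ quo b X i := fun h hh => by
  have h1 : lift b i h ∈ mono b := mem_mono.2 fun j => by
    by_cases hj : j = i
    · subst hj; exact ⟨j, 1, by simp [lift_apply]⟩
    · obtain ⟨k, c, hc⟩ := mem_mono.1 hh ⟨j, hj⟩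
      refine ⟨k, c, ?_⟩
      rw [lift_apply, pr_b b i ⟨j, hj⟩, hc, map_smul, sec_b]
      simp [Finsupp.single_apply, hj]
  obtain ⟨g, hg, c, hc⟩ := exists_fix b h1 i
  refine ⟨g, hX hg, fun v => ?_⟩
  have : pr b i (dg b (Pi.mulSingle i c) v) = pr b i v := by ext j; simp [j.2]
  simp [hc, lift_apply, this]

include hS hX h5 hF hW

theorem not_win_quo (i : ι) : ¬ Win (Pi.basisFun F _) (quo b X i) := by
  rintro ⟨⟨j, ji⟩, ⟨k, ki⟩, c, hjk, hc, _, ⟨x, hx, H⟩, H'⟩
  have jk : j ≠ k := fun h => hjk (Subtype.ext h)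
  obtain ⟨ε, e0, e1, e2, -⟩ := hF 0 1 (-1) 0
  have he : Units.mk0 ε e0 ≠ 1 := fun h => e1 (congrArg Units.val h)
  set β : V →ₗ[F] F := b.coord i ∘ₗ x - b.coord i
  have h1 : ∀ v, x v = v + (c * b.repr v k) • b j + β v • b i := fun v => by
    refine ext_pr b i ?_ (by simp [β, Finsupp.single_apply, ji])
    rw [← H, H', map_add, map_add, map_smul, map_smul, pr_b b i ⟨j, ji⟩]; simp
  have h2 : β (b i) = 0 := by
    obtain ⟨τ, hτ, hτ'⟩ := exists_tv (u := b j) (φ := -c • b.coord k)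
      (by simp [Finsupp.single_apply, jk])
    have h3 := det_of_tv (g := τ * x) (u := b i) (φ := β) fun v => by
      rw [LinearEquiv.mul_apply, hτ', h1]
      simp [Finsupp.single_apply, jk, ki.symm]; abel
    rw [mem_slV.1 (mul_mem hτ (hS hx))] at h3
    simpa using h3
  have h3 : ∀ t : ι → Fˣ, dg b t ∈ X → t j = t k → ∀ l, (t i : F) * β (b l) = t l * β (b l) := by
    intro t ht htk l
    have hxi : x.symm (b i) = b i := by
      rw [LinearEquiv.symm_apply_eq, h1]; simp [h2, Finsupp.single_apply, ki.symm]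
    have h4 : HasTv X (b i) ((((t i : F) • β) ∘ₗ ((dg b t).symm : V →ₗ[F] V) - β) ∘ₗ
        (x.symm : V →ₗ[F] V)) := by
      refine ⟨dg b t * x * (dg b t)⁻¹ * x⁻¹, mul_mem (mul_mem (mul_mem ht hx) (inv_mem ht))
        (inv_mem hx), fun v => ?_⟩
      obtain ⟨w, rfl⟩ := x.surjective v
      simp only [LinearEquiv.mul_apply, lin_inv_apply, LinearMap.comp_apply, LinearEquiv.coe_coe,
        LinearEquiv.symm_apply_apply, LinearMap.sub_apply, LinearMap.smul_apply]
      rw [h1, h1 w]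
      simp [lin_apply_inv, htk, smul_smul, sub_smul, mul_comm]
      congr 1; field_simp
    by_contra h6
    refine hW (win_of_centre hX (by omega) he h4 (by simp [hxi, h2]) fun h => h6 ?_)
    have := LinearMap.congr_fun h (x (b l))
    simp at this
    field_simp at this
    linear_combination this
  refine hW ⟨j, k, c, jk, hc, x, hx, fun v => ?_⟩
  have : β = 0 := b.ext fun l => by
    by_cases hl : l = i
    · rw [hl, h2]; rfl
    by_cases hl' : l = j ∨ l = k
    · obtain ⟨m, mi, mj, mk⟩ := exists_ne3 (by omega) i j k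
      have := h3 _ (hX (d2_mem b i m (Units.mk0 ε e0)))
        (by rw [d2_ne ji mj.symm, d2_ne ki mk.symm]) l
      rw [d2_left mi.symm, d2_ne hl (by rcases hl' with rfl | rfl <;> exact fun h => by simp_all)]
        at this
      have : (ε - 1) * β (b l) = 0 := by simp at this; linear_combination this
      simpa [sub_ne_zero.2 e1] using this
    · push Not at hl'
      have := h3 _ (hX (d2_mem b i l (Units.mk0 ε e0)))
        (by rw [d2_ne ji hl'.1.symm, d2_ne ki hl'.2.symm]) l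
      rw [d2_left (Ne.symm hl), d2_right (Ne.symm hl)] at this
      have : (ε - 1) * (ε + 1) * β (b l) = 0 := by
        simp only [Units.val_mk0, Units.val_inv_eq_inv_val] at this
        field_simp at this
        linear_combination this
      simpa [sub_ne_zero.2 e1, add_eq_zero_iff_eq_neg, e2] using this
  rw [h1, this]; simp

theorem stab_mono {x : V ≃ₗ[F] V} (hx : x ∈ X) {i : ι} {c : F} (h : x (b i) = c • b i) :
    x ∈ mono b := by
  have hc : c ≠ 0 := by rintro rfl; exact b.ne_zero i (x.injective (by simpa using h))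
  have h' : x.symm (b i) = c⁻¹ • b i := by
    rw [LinearEquiv.symm_apply_eq, map_smul, h, smul_smul, inv_mul_cancel₀ hc, one_smul]
  let y : ({j // j ≠ i} → F) ≃ₗ[F] ({j // j ≠ i} → F) :=
    LinearEquiv.ofLinearMap (pr b i ∘ₗ x ∘ₗ sec b i) (pr b i ∘ₗ x.symm ∘ₗ sec b i)
      (LinearMap.ext fun w => by simp [sec_pr, h]) (LinearMap.ext fun w => by simp [sec_pr, h'])
  have hy : ∀ v, y (pr b i v) = pr b i (x v) := fun v => by
    change pr b i (x (sec b i (pr b i v))) = _
    simp [sec_pr, h]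
  obtain ⟨ε, e0, e1, e2, -⟩ := hF 0 1 (-1) 0
  obtain ⟨ε', f0, f1, f2, f3⟩ := hF 0 1 ε ε⁻¹
  have h4 : 4 ≤ Fintype.card {j // j ≠ i} := by simp; omega
  have hL := mono_le_quo hX i
  obtain ⟨τ, hτ, hτ'⟩ := exists_tv (u := b i) (φ := b.coord i - c⁻¹ • b.coord i ∘ₗ x)
    (by simp [h, hc])
  have h1 : x * τ ∈ mono b := mem_mono.2 fun j => by
    by_cases hj : j = i
    · subst hj; exact ⟨j, c, by simp [hτ', h, hc]⟩
    have h2 := (pair_basis hL ⟨j, hj⟩).conj (g := y) ⟨x, hx, hy⟩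
    rw [← pr_b b i ⟨j, hj⟩, hy] at h2
    obtain ⟨k, hk⟩ : ∃ k : {j // j ≠ i}, b.repr (x (b j)) k ≠ 0 := by
      by_contra h3; push Not at h3
      have : pr b i (x (b j)) = 0 := funext h3
      rw [this] at h2; simpa using h2.1
    refine ⟨k, b.repr (x (b j)) k, b.ext_elem fun l => ?_⟩
    by_cases hl : l = i
    · subst hl; simp [hτ', h, hc, Finsupp.single_apply, hj, k.2]; field_simp; ring
    by_cases hl' : l = k
    · subst hl'; simp [hτ', h, Finsupp.single_apply, k.2.symm]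
    have := h2.std hL h4 e0 e1 (not_win_quo hS hX h5 hF hW i) f0 f1 f2
      (fun h => f3 (eq_inv_of_mul_eq_one_left h))
      (fun h => by
        have : (ε - 1) * (ε + 1) = 0 := by linear_combination h
        simp [sub_ne_zero.2 e1, add_eq_zero_iff_eq_neg, e2] at this)
      (i := k) (j := ⟨l, hl⟩) (fun h => hl' (congrArg Subtype.val h).symm) (by simpa using hk)
    simp at this
    simp [hτ', h, Finsupp.single_apply, Ne.symm hl, Ne.symm hl', this]
  have h2 : τ ∈ X := (mul_mem_cancel_left hx).1 (hX ⟨mul_mem (hS hx) hτ, h1⟩)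
  have h3 : b.coord i - c⁻¹ • b.coord i ∘ₗ x = 0 := by
    by_contra h3
    exact hW (win_of_centre hX (by omega) (ε := Units.mk0 ε e0)
      (fun h => e1 (congrArg Units.val h)) ⟨τ, h2, hτ'⟩ (by simp [h, hc]) h3)
  have : τ = 1 := by ext v; rw [hτ', h3]; simp
  rwa [this, mul_one] at h1

theorem mem_mono_of_map {g : V ≃ₗ[F] V} (hg : g ∈ X) {l k : ι} {c : F} (h : g (b l) = c • b k) :
    g ∈ mono b := by
  obtain ⟨y, hy, a, ha⟩ := exists_fix b (mon_mem b (Equiv.swap l k) 1) k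
  refine (Subgroup.mul_mem_cancel_left _ hy.2).1 (stab_mono hS hX h5 hF hW (mul_mem (hX hy) hg)
    (i := l) (c := c * a) ?_)
  simp [h, ha, mon_b, smul_smul]

theorem frame_map {g y : V ≃ₗ[F] V} (hg : g ∈ X) (hy : y ∈ X) {l : ι}
    (h : y (g (b l)) = g (b l)) : g⁻¹ * y * g ∈ mono b :=
  stab_mono hS hX h5 hF hW (mul_mem (mul_mem (inv_mem hg) hy) hg) (i := l) (c := 1)
    (by simp [h])

theorem frame_map' {g y : V ≃ₗ[F] V} (hg : g ∈ X) (hy : y ∈ X) {l : ι}
    (h : y (g (b l)) = g (b l)) (m : ι) : ∃ m', ∃ c : F, y (g (b m)) = c • g (b m') := by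
  obtain ⟨m', c, hc⟩ := mem_mono.1 (frame_map hS hX h5 hF hW hg hy h) m
  exact ⟨m', c, by rw [← map_smul, ← hc]; simp⟩

theorem dichotomy {g : V ≃ₗ[F] V} (hg : g ∈ X) {l a a' : ι} (ha : a ≠ a')
    (h1 : b.repr (g (b l)) a = 0) (h2 : b.repr (g (b l)) a' = 0) {m : ι}
    (h3 : b.repr (g (b m)) a ≠ 0) {c : ι} (ca : c ≠ a) (ca' : c ≠ a') :
    b.repr (g (b m)) c = 0 := by
  by_contra h4
  have h6 : ∀ ε : Fˣ, ∃ m', ∃ e : F, dg b (d2 a a' ε) (g (b m)) = e • g (b m') := fun ε =>
    frame_map' hS hX h5 hF hW hg (hX (d2_mem b a a' ε)) (l := l) (b.ext_elem fun j => by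
      by_cases hj : j = a
      · simp [hj, h1]
      by_cases hj' : j = a'
      · simp [hj', h2]
      · simp [d2_ne hj hj']) m
  choose μ e he using h6
  have hμ : Function.Injective μ := fun ε ε' h => by
    have a1 := congrArg (fun v => b.repr v c) (he ε)
    have a2 := congrArg (fun v => b.repr v c) (he ε')
    have a3 := congrArg (fun v => b.repr v a) (he ε)
    have a4 := congrArg (fun v => b.repr v a) (he ε')
    simp only [repr_dg, d2_ne ca ca', d2_left ha, map_smul, Finsupp.smul_apply, smul_eq_mul,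
      Units.val_one, one_mul, h] at a1 a2 a3 a4
    have a5 : e ε = e ε' := mul_right_cancel₀ (b := b.repr (g (b (μ ε'))) c)
      (fun h => h4 (by rw [a2, h, mul_zero])) (a1.symm.trans a2)
    exact Units.ext (mul_right_cancel₀ h3 (by rw [a3, a4, a5]))
  obtain ⟨x₁, p0, p1, -⟩ := hF 0 1 1 1
  obtain ⟨x₂, q0, q1, q2, -⟩ := hF 0 1 x₁ x₁
  obtain ⟨x₃, r0, r1, r2, r3⟩ := hF 0 1 x₁ x₂
  let ε : Fin 4 → Fˣ := ![1, Units.mk0 x₁ p0, Units.mk0 x₂ q0, Units.mk0 x₃ r0]
  have hε : Function.Injective ε := by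
    intro i j h
    replace h := congrArg Units.val h
    revert h
    fin_cases i <;> fin_cases j <;> simp [ε, p1, q1, q2, r1, r2, r3, p1.symm, q1.symm, q2.symm,
      r1.symm, r2.symm, r3.symm]
  obtain ⟨lam, -, l0, hl⟩ := exists_ne_zero_kers (⊤ : Submodule F (Fin 4 → F))
    [∑ r, LinearMap.proj r, ∑ r, (ε r : F) • LinearMap.proj r,
      ∑ r, (ε r : F)⁻¹ • LinearMap.proj r] (by simp)
  simp only [List.mem_cons, List.not_mem_nil, or_false, forall_eq_or_imp, forall_eq,
    LinearMap.sum_apply, LinearMap.smul_apply, LinearMap.proj_apply, smul_eq_mul] at hl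
  have li := ((b.linearIndependent.comp _ (hμ.comp hε)).map' (g : V →ₗ[F] V) g.ker)
  rw [Fintype.linearIndependent_iff] at li
  have h7 := li (fun r => lam r * e (ε r)) (by
    simp only [Function.comp, LinearEquiv.coe_coe, mul_smul, ← he]
    refine b.ext_elem fun j => ?_
    simp only [map_sum, map_smul, Finsupp.coe_finsetSum, Finset.sum_apply, Finsupp.smul_apply,
      repr_dg, smul_eq_mul, map_zero, Finsupp.zero_apply, ← mul_assoc, ← Finset.sum_mul]
    by_cases hj : j = a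
    · simp only [hj, d2_left ha, mul_comm (lam _), hl.2.1, zero_mul]
    by_cases hj' : j = a'
    · simp only [hj', d2_right ha, mul_comm (lam _), Units.val_inv_eq_inv_val, hl.2.2, zero_mul]
    · simp [d2_ne hj hj', hl.1])
  refine l0 (funext fun r => (mul_eq_zero.1 (h7 r)).resolve_right fun h => ?_)
  have := he (ε r)
  rw [h, zero_smul, map_eq_zero_iff _ (dg b _).injective, map_eq_zero_iff _ g.injective] at this
  exact b.ne_zero m this

omit [Fintype ι] [DecidableEq ι] [FiniteDimensional F V] hS hX h5 hF hW in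
theorem exists_coord_ne (g : V ≃ₗ[F] V) (a : ι) : ∃ m, b.repr (g (b m)) a ≠ 0 := by
  by_contra h; push Not at h
  have : b.coord a ∘ₗ (g : V →ₗ[F] V) = 0 := b.ext h
  simpa using LinearMap.congr_fun this (g.symm (b a))

omit [DecidableEq ι] [FiniteDimensional F V] hS hX hF hW in
theorem exists_ne4 (i j k l : ι) : ∃ m, m ≠ i ∧ m ≠ j ∧ m ≠ k ∧ m ≠ l := by
  classical
  by_contra h
  push Not at h
  have : (Finset.univ : Finset ι) ⊆ {i, j, k, l} := fun l _ => by
    have := h l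
    simp only [Finset.mem_insert, Finset.mem_singleton]; tauto
  have := (Finset.card_le_card this).trans Finset.card_le_four
  simp at this; omega

theorem two_zero {g : V ≃ₗ[F] V} (hg : g ∈ X) (hg' : g ∉ mono b) {l a a' : ι} (ha : a ≠ a')
    (h1 : b.repr (g (b l)) a = 0) : b.repr (g (b l)) a' ≠ 0 := by
  intro h2
  obtain ⟨m, hm⟩ := exists_coord_ne (b := b) g a
  obtain ⟨a₁, p1, p2, -⟩ := exists_ne4 h5 a a' a a
  obtain ⟨a₂, q1, q2, q3, -⟩ := exists_ne4 h5 a a' a₁ a
  obtain ⟨a₃, r1, r2, r3, r4⟩ := exists_ne4 h5 a a' a₁ a₂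
  have h3 := fun c => dichotomy hS hX h5 hF hW hg ha h1 h2 hm (c := c)
  obtain ⟨m', hm'⟩ := exists_coord_ne (b := b) g a₁
  have h4 := fun c => dichotomy hS hX h5 hF hW hg q3.symm (h3 _ p1 p2) (h3 _ q1 q2) hm' (c := c)
  have h6 := fun c => dichotomy hS hX h5 hF hW hg r3.symm (h3 _ p1 p2) (h3 _ r1 r2) hm' (c := c)
  refine hg' (mem_mono_of_map hS hX h5 hF hW hg (l := m') (k := a₁)
    (c := b.repr (g (b m')) a₁) (b.ext_elem fun j => ?_))
  by_cases hj : j = a₁
  · simp [hj]
  by_cases hj' : j = a₂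
  · simp [Finsupp.single_apply, Ne.symm hj, h6 j hj (hj' ▸ r4.symm)]
  · simp [Finsupp.single_apply, Ne.symm hj, h4 j hj hj']

omit [FiniteDimensional F V] hS hX h5 hF hW in
variable (b) in
/-- Twisted permutation matrices. -/
noncomputable def tw (t : ι → Fˣ) : Equiv.Perm ι →* (V ≃ₗ[F] V) :=
  MonoidHom.mk' (fun σ => dg b t * mon b σ 1 * (dg b t)⁻¹) fun σ τ => by
    have : mon b (σ * τ) 1 = mon b σ 1 * mon b τ 1 :=
      LinearEquiv.toLinearMap_injective (b.ext fun i => by simp [mon_b])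
    rw [this]; group

omit [Fintype ι] [DecidableEq ι] [FiniteDimensional F V] hS hX h5 hF hW in
theorem repr_tw (t : ι → Fˣ) (σ : Equiv.Perm ι) (v : V) (i : ι) :
    b.repr (tw b t σ v) (σ i) = t (σ i) * ((t i : F)⁻¹ * b.repr v i) := by
  change b.repr (dg b t (mon b σ 1 ((dg b t).symm v))) (σ i) = _
  simp [repr_mon]

omit [FiniteDimensional F V] hS hX h5 hF hW in
theorem tw_mem (t : ι → Fˣ) {σ : Equiv.Perm ι} (h : σ ∈ alternatingGroup ι) :
    tw b t σ ∈ slV F V ⊓ mono b := by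
  refine Subgroup.mem_inf.2
    ⟨?_, mul_mem (mul_mem (dg_mem b _) (mon_mem b _ _)) (inv_mem (dg_mem b _))⟩
  change dg b t * mon b σ 1 * (dg b t)⁻¹ ∈ slV F V
  rw [mem_slV, ← LinearEquiv.coe_det, map_mul, map_mul, map_inv, mul_inv_cancel_comm,
    LinearEquiv.coe_det, det_mon, Equiv.Perm.mem_alternatingGroup.1 h]
  simp

omit [Fintype ι] [DecidableEq ι] [FiniteDimensional F V] hS hX h5 hF hW in
theorem exists_tw_ne (t : ι → Fˣ) {σ : Equiv.Perm ι} {i : ι} (h : σ i ≠ i) (g : V ≃ₗ[F] V) :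
    ∃ m, tw b t σ (g (b m)) ≠ g (b m) := by
  classical
  by_contra h1; push Not at h1
  have : (tw b t σ : V →ₗ[F] V) ∘ₗ (g : V →ₗ[F] V) = g := b.ext h1
  have h2 : tw b t σ (b i) = b i := by simpa using LinearMap.congr_fun this (g.symm (b i))
  have := repr_tw (b := b) t σ (b i) i
  simp [h2, Finsupp.single_apply, h.symm] at this

theorem one_zero {g : V ≃ₗ[F] V} (hg : g ∈ X) (hg' : g ∉ mono b) (l a : ι) :
    b.repr (g (b l)) a ≠ 0 := by
  intro h1
  have h2 := fun c (h : c ≠ a) => two_zero hS hX h5 hF hW hg hg' h.symm h1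
  let t : ι → Fˣ := fun c => if h : c = a then 1 else Units.mk0 _ (h2 c h)
  obtain ⟨i, p1, -⟩ := exists_ne4 h5 a a a a
  obtain ⟨j, q1, q2, -⟩ := exists_ne4 h5 a i a a
  obtain ⟨k, r1, r2, r3, -⟩ := exists_ne4 h5 a i j a
  set σ := Equiv.swap i j * Equiv.swap j k
  have hσ : ∀ c, c ≠ i → c ≠ j → c ≠ k → σ c = c := fun c h1 h2 h3 => by
    simp [σ, Equiv.swap_apply_of_ne_of_ne, *]
  have hσa := hσ a p1.symm q1.symm r1.symm
  have hπ := hX (tw_mem (b := b) t (σ := σ) (by
    simp [σ, Equiv.Perm.mem_alternatingGroup, q2.symm, r3.symm]))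
  have hv : tw b t σ (g (b l)) = g (b l) := b.ext_elem fun c => by
    obtain ⟨c, rfl⟩ := σ.surjective c
    rw [repr_tw]
    by_cases hc : c = a
    · simp [hc, hσa, h1]
    · have : σ c ≠ a := fun h => hc (σ.injective (h.trans hσa.symm))
      simp [t, hc, this, h2 c hc]
  obtain ⟨m, hm⟩ := exists_tw_ne (b := b) t (σ := σ) (i := i)
    (by simp [σ, Equiv.swap_apply_of_ne_of_ne q2.symm r2.symm, q2]) g
  obtain ⟨m', c', hc'⟩ := frame_map' hS hX h5 hF hW hg hπ hv m
  set w := g (b m) - tw b t σ (g (b m))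
  have hw : ∀ c, c ≠ i → c ≠ j → c ≠ k → b.repr w c = 0 := fun c h1 h2 h3 => by
    have := repr_tw (b := b) t σ (g (b m)) c
    rw [hσ c h1 h2 h3] at this
    simp [w, this]
  obtain ⟨γ, s0, s1, s2, s3⟩ := hF 0 (-b.repr w i / b.repr (g (b l)) i)
    (-b.repr w j / b.repr (g (b l)) j) (-b.repr w k / b.repr (g (b l)) k)
  have hu : ∀ c, c ≠ a → γ + b.repr w c / b.repr (g (b l)) c ≠ 0 := fun c hc h => by
    have h' : γ = -b.repr w c / b.repr (g (b l)) c := by linear_combination h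
    by_cases c1 : c = i
    · exact s1 (c1 ▸ h')
    by_cases c2 : c = j
    · exact s2 (c2 ▸ h')
    by_cases c3 : c = k
    · exact s3 (c3 ▸ h')
    · exact s0 (by simpa [hw c c1 c2 c3] using h)
  obtain ⟨y, hy, e, he⟩ := exists_fix b
    (dg_mem b fun c => if h : c = a then 1 else Units.mk0 _ (hu c h)) a
  have h3 : y (g (b l)) = γ • g (b l) + w := b.ext_elem fun c => by
    by_cases hc : c = a
    · simp [he, hc, h1, hw a p1.symm q1.symm r1.symm]
    · simp [he, hc]; field_simp [h2 c hc]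
  have h4 : (g⁻¹ * y * g) (b l) = γ • b l + (b m - c' • b m') := by
    apply g.injective
    simp [h3, w, hc']
  have ml : m ≠ l := by rintro rfl; exact hm hv
  have ml' : m' ≠ l := by
    rintro rfl
    rw [← hv, ← map_smul, (tw b t σ).injective.eq_iff, ← map_smul, g.injective.eq_iff] at hc'
    have := congrArg (fun v => b.repr v m) hc'
    simp [Finsupp.single_apply, ml.symm] at this
  by_cases h6 : g⁻¹ * y * g ∈ mono b
  · obtain ⟨r, x, hx⟩ := mem_mono.1 h6 l
    rw [h4] at hx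
    have a1 := congrArg (fun v => b.repr v l) hx
    by_cases hr : r = l
    · subst hr
      simp [Finsupp.single_apply, ml, ml'] at a1
      rw [← a1, add_eq_left, sub_eq_zero] at hx
      exact hm (by rw [hc', ← map_smul, ← hx])
    · simp [Finsupp.single_apply, ml, ml', hr, s0] at a1
  · obtain ⟨c₁, u1, u2, u3, -⟩ := exists_ne4 h5 l m m' l
    obtain ⟨c₂, v1, v2, v3, v4⟩ := exists_ne4 h5 l m m' c₁
    refine two_zero hS hX h5 hF hW (mul_mem (mul_mem (inv_mem hg) (hX hy)) hg) h6 v4 (l := l)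
      ?_ ?_ <;> rw [h4] <;> simp [Finsupp.single_apply, Ne.symm, *]

theorem le_mono : X ≤ mono b := fun g hg => by
  by_contra hg'
  have h1 := one_zero hS hX h5 hF hW hg hg'
  obtain ⟨l⟩ : Nonempty ι := Fintype.card_pos_iff.1 (by omega)
  let t : ι → Fˣ := fun c => Units.mk0 _ (h1 l c)
  have hv : ∀ σ, tw b t σ (g (b l)) = g (b l) := fun σ => b.ext_elem fun c => by
    obtain ⟨c, rfl⟩ := σ.surjective c
    rw [repr_tw]; simp [t, h1 l c]
  let ρ₀ : alternatingGroup ι →* mono b :=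
    (((MulAut.conj g⁻¹).toMonoidHom.comp (tw b t)).comp (alternatingGroup ι).subtype).codRestrict _
      fun σ => by
        simpa using frame_map hS hX h5 hF hW hg (hX (tw_mem t σ.2)) (hv σ)
  let ρ := (decPerm (span_inj b)).comp ρ₀
  have hρ : ∀ σ m, ∃ c : F, tw b t σ.1 (g (b m)) = c • g (b (ρ σ m)) := fun σ m => by
    have h2 : (F ∙ b m).map ((ρ₀ σ).1 : V →ₗ[F] V) = F ∙ b (ρ σ m) :=
      decPerm_spec (span_inj b) (ρ₀ σ) m
    have : (ρ₀ σ).1 (b m) ∈ F ∙ b (ρ σ m) :=
      h2 ▸ ⟨b m, Submodule.mem_span_singleton_self _, rfl⟩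
    obtain ⟨c, hc⟩ := Submodule.mem_span_singleton.1 this
    refine ⟨c, ?_⟩
    rw [← map_smul, hc]; simp [ρ₀]
  obtain ⟨j, q1, -⟩ := exists_ne4 h5 l l l l
  obtain ⟨k, r1, r2, -⟩ := exists_ne4 h5 l j l l
  obtain ⟨a, s1, s2, s3, -⟩ := exists_ne4 h5 l j k l
  have hσ : Equiv.swap l j * Equiv.swap j k ∈ alternatingGroup ι := by
    simp [Equiv.Perm.mem_alternatingGroup, q1.symm, r2.symm]
  have hl : (Equiv.swap l j * Equiv.swap j k) l ≠ l := by
    simp [Equiv.swap_apply_of_ne_of_ne q1.symm r1.symm, q1]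
  have := alternatingGroup.isSimpleGroup (α := ι) (by simpa using h5)
  rcases ρ.normal_ker.eq_bot_or_eq_top with h | h
  · have h2 : ρ.range.index = 2 := by
      have : Nontrivial ι := ⟨j, l, q1⟩
      have a1 := ρ.range.card_mul_index
      have a2 := (alternatingGroup ι).card_mul_index
      rw [← Nat.card_congr (ρ.ofInjective ((MonoidHom.ker_eq_bot_iff ρ).1 h)).toEquiv] at a1
      rw [alternatingGroup.index_eq_two, ← a1] at a2
      exact (Nat.eq_of_mul_eq_mul_left Nat.card_pos a2).symm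
    rw [← Equiv.Perm.eq_alternatingGroup_of_index_eq_two h2] at hσ
    obtain ⟨σ, hσ⟩ := hσ
    obtain ⟨c, hc⟩ := hρ σ l
    rw [hv, ← map_smul, g.injective.eq_iff, hσ] at hc
    have := congrArg (fun v => b.repr v l) hc
    simp [Finsupp.single_apply] at this
    exact hl (by by_contra h; simp_all)
  · obtain ⟨m, hm⟩ := exists_tw_ne (b := b) t hl g
    obtain ⟨c, hc⟩ := hρ ⟨_, hσ⟩ m
    have h2 : ρ ⟨_, hσ⟩ = 1 := by rw [← MonoidHom.mem_ker, h]; trivial
    rw [h2, Equiv.Perm.one_apply] at hc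
    have h3 := repr_tw (b := b) t (Equiv.swap l j * Equiv.swap j k) (g (b m)) a
    have h4 : (Equiv.swap l j * Equiv.swap j k) a = a := by
      simp [Equiv.swap_apply_of_ne_of_ne, *]
    rw [h4, hc] at h3
    have : c = 1 := by simpa [h1 m a] using h3
    exact hm (by rw [hc, this, one_smul])

omit hW in
theorem slV_le (h : ¬ X ≤ mono b) : slV F V ≤ X :=
  Win.slV_le hX (by omega) (by_contra fun hW => h (le_mono hS hX h5 hF hW))

end Fr

end Cfsg.Lib.Forms
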